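/-
Binary affine groups: a group `H` of automorphisms of a finite abelian group `V` such that maps on finite
sets of points which preserve all orbits and orbits of differences are induced by elements of `H`.
For each `δ` there is one element translating by `δ` every point that some element translates by `δ`;
the basic consequences of this are collected here.
-/
import Mathlib

set_option autoImplicit false
set_option linter.unusedSectionVars false

namespace CfsgLib.BinaryAffine

variable {H V : Type*} [Group H] [AddCommGroup V] [DistribMulAction H V]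

/-- Partial maps preserving orbits of points and of differences are induced. -/
def Bin (H V : Type*) [Group H] [AddCommGroup V] [DistribMulAction H V] : Prop :=
  ∀ (S : Set V) (f : V → V), (∀ a ∈ S, ∃ h : H, h • a = f a) →
    (∀ a ∈ S, ∀ b ∈ S, ∃ h : H, h • (a - b) = f a - f b) → ∃ h : H, ∀ a ∈ S, h • a = f a

/-- The map `x ↦ g • x - x`. -/
def D (g : H) : V →+ V := DistribSMul.toAddMonoidHom V g - AddMonoidHom.id V

theorem D_apply (g : H) (x : V) : D g x = g • x - x := rfl

/-- The fixed points of an element. -/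
def Fx (g : H) : AddSubgroup V := (D g).ker

/-- The differences of an element. -/
def Img (g : H) : AddSubgroup V := (D g).range

theorem mem_Fx {g : H} {x : V} : x ∈ (Fx g : AddSubgroup V) ↔ g • x = x := by
  rw [Fx, AddMonoidHom.mem_ker, D_apply, sub_eq_zero]

theorem mem_Img {g : H} {x : V} : x ∈ (Img g : AddSubgroup V) ↔ ∃ y, g • y - y = x := Iff.rfl

theorem sub_mem_Img (g : H) (x : V) : g • x - x ∈ (Img g : AddSubgroup V) := ⟨x, rfl⟩

theorem smul_eq_add {g : H} {x δ : V} (h : g • x - x = δ) : g • x = x + δ := by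
  rw [← h, add_sub_cancel]

theorem card_Fx_mul_Img (g : H) :
    Nat.card (Fx g : AddSubgroup V) * Nat.card (Img g : AddSubgroup V) = Nat.card V := by
  rw [mul_comm, Img, Fx, ← Nat.card_congr (QuotientAddGroup.quotientKerEquivRange (D g)).toEquiv]
  exact (AddSubgroup.card_eq_card_quotient_mul_card_addSubgroup _).symm

theorem fx_one : (Fx (1 : H) : AddSubgroup V) = ⊤ := by
  ext x
  simp [mem_Fx]

/-- Elements fixed by two elements are fixed by their product. -/
theorem fx_mul {g k : H} {x : V} (hg : x ∈ (Fx g : AddSubgroup V)) (hk : x ∈ (Fx k : AddSubgroup V)) :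
    x ∈ (Fx (g * k) : AddSubgroup V) := by
  rw [mem_Fx] at *
  rw [mul_smul, hk, hg]

theorem fx_inv {g : H} {x : V} (hg : x ∈ (Fx g : AddSubgroup V)) : x ∈ (Fx g⁻¹ : AddSubgroup V) := by
  rw [mem_Fx] at *
  rw [inv_smul_eq_iff, hg]

theorem fx_conj {g k : H} {x : V} : x ∈ (Fx (g * k * g⁻¹) : AddSubgroup V) ↔
    g⁻¹ • x ∈ (Fx k : AddSubgroup V) := by
  simp only [mem_Fx, mul_smul]
  exact ⟨fun h => by conv_rhs => rw [← h, inv_smul_smul], fun h => by rw [h, smul_inv_smul]⟩

theorem img_conj {g k : H} {x : V} (hx : x ∈ (Img k : AddSubgroup V)) :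
    g • x ∈ (Img (g * k * g⁻¹) : AddSubgroup V) := by
  obtain ⟨y, hy⟩ := mem_Img.1 hx
  exact mem_Img.2 ⟨g • y, by rw [mul_smul, mul_smul, inv_smul_smul, ← smul_sub, hy]⟩

theorem eq_one_of_fx [FaithfulSMul H V] {g : H} (h : (Fx g : AddSubgroup V) = ⊤) : g = 1 :=
  FaithfulSMul.eq_of_smul_eq_smul (α := V) fun x => by
    rw [one_smul]; exact mem_Fx.1 (h ▸ AddSubgroup.mem_top x)

theorem ne_one_of_sub {g : H} {x δ : V} (hδ : δ ≠ 0) (h : g • x - x = δ) : g ≠ 1 := fun e => by
  rw [e, one_smul, sub_self] at h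
  exact hδ h.symm

theorem ne_one_of_not_mem {g : H} {x : V} (h : x ∉ (Fx g : AddSubgroup V)) : g ≠ 1 := fun e =>
  h (mem_Fx.2 (by rw [e, one_smul]))

/-- An element whose fixed points are maximal among those of non-identity elements. -/
def IsR (V : Type*) [AddCommGroup V] [DistribMulAction H V] (h : H) : Prop :=
  h ≠ 1 ∧ ∀ k : H, k ≠ 1 → (Fx h : AddSubgroup V) ≤ Fx k → (Fx k : AddSubgroup V) = Fx h

theorem exists_isR [Finite H] [Finite V] {g : H} (hg : g ≠ 1) :
    ∃ h : H, IsR V h ∧ (Fx g : AddSubgroup V) ≤ Fx h := by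
  obtain ⟨_, ⟨hge, h, hh1, rfl⟩, hmax⟩ := Set.Finite.exists_maximal
    (s := {F : AddSubgroup V | (Fx g : AddSubgroup V) ≤ F ∧ ∃ k : H, k ≠ 1 ∧ Fx k = F})
    (Set.toFinite _) ⟨_, le_rfl, g, hg, rfl⟩
  exact ⟨h, ⟨hh1, fun k hk hle => le_antisymm (hmax ⟨hge.trans hle, k, hk, rfl⟩ hle) hle⟩, hge⟩

section

variable (hB : Bin H V)
include hB

/-- One element translates all points translated by a given vector. -/
theorem exists_trans (δ : V) : ∃ s : H, ∀ g : H, ∀ x : V, g • x - x = δ → s • x - x = δ := by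
  obtain ⟨s, hs⟩ := hB {x | ∃ g : H, g • x - x = δ} (fun x => x + δ)
    (fun a ⟨g, hg⟩ => ⟨g, smul_eq_add hg⟩)
    (fun a _ b _ => ⟨1, by rw [one_smul]; abel⟩)
  exact ⟨s, fun g x h => by rw [hs x ⟨g, h⟩, add_sub_cancel_left]⟩

/-- The element translating by `δ`. -/
noncomputable def S (δ : V) : H := (exists_trans hB δ).choose

theorem S_spec {δ : V} {g : H} {x : V} (h : g • x - x = δ) : S hB δ • x - x = δ :=
  (exists_trans hB δ).choose_spec g x h

/-- The translated points are swapped with their images, and the translation vector is negated. -/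
theorem S_neg {δ : V} {g : H} {x : V} (h : g • x - x = δ) :
    S hB δ • δ = -δ ∧ S hB δ • (x + δ) = x := by
  have h1 := smul_eq_add (S_spec hB h)
  have h2 : g⁻¹ • (-x - δ) - (-x - δ) = δ := by
    rw [show -x - δ = -(g • x) by rw [smul_eq_add h]; abel, smul_neg, inv_smul_smul, smul_eq_add h]
    abel
  have h3 := smul_eq_add (S_spec hB h2)
  have h4 : S hB δ • (x + δ) = x := by
    rw [show x + δ = -(-x - δ) by abel, smul_neg, h3]
    abel
  refine ⟨?_, h4⟩
  have h5 : S hB δ • ((x + δ) - x) = x - (x + δ) := by rw [smul_sub, h4, h1]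
  rw [add_sub_cancel_left] at h5
  rw [h5]
  abel

theorem S_ne_one {δ : V} {g : H} {x : V} (hδ : δ ≠ 0) (h : g • x - x = δ) : S hB δ ≠ 1 :=
  ne_one_of_sub hδ (S_spec hB h)

/-- Fixed points of an element with difference `δ` are fixed by the translating element. -/
theorem S_fix {δ : V} {g : H} {x : V} (h : g • x - x = δ) :
    (Fx g : AddSubgroup V) ≤ Fx (S hB δ) := by
  intro w hw
  rw [mem_Fx] at hw ⊢
  have h1 := S_spec hB h
  have h2 := S_spec hB (g := g) (x := x + w) (δ := δ) (by rw [smul_add, hw, ← h]; abel)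
  rw [smul_add, smul_eq_add h1] at h2
  calc S hB δ • w = (x + δ + S hB δ • w - (x + w)) - δ + w := by abel
    _ = w := by rw [h2]; abel

theorem S_fix_S {δ : V} {g : H} {x y : V} (hx : g • x - x = δ) {g' : H} (hy : g' • y - y = δ) :
    x - y ∈ (Fx (S hB δ) : AddSubgroup V) := by
  rw [mem_Fx, smul_sub, smul_eq_add (S_spec hB hx), smul_eq_add (S_spec hB hy)]
  abel

/-- A difference fixed by its element is of order two. -/
theorem two_of_fixed {g : H} {δ : V} (hi : δ ∈ (Img g : AddSubgroup V))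
    (hf : δ ∈ (Fx g : AddSubgroup V)) : δ + δ = 0 := by
  obtain ⟨x, hx⟩ := mem_Img.1 hi
  have h1 := (S_neg hB hx).1
  rw [mem_Fx.1 (S_fix hB hx hf)] at h1
  rwa [← eq_neg_iff_add_eq_zero]

variable [FaithfulSMul H V]

/-- For a maximal element the translating element is itself. -/
theorem S_of_R {h : H} (hR : IsR V h) {δ : V} (hδ : δ ≠ 0) {x : V} (hx : h • x - x = δ) :
    S hB δ = h := by
  have hs := S_ne_one hB hδ hx
  have hle := S_fix hB hx
  by_contra hne
  have hne' : h⁻¹ * S hB δ ≠ 1 := fun e => hne (inv_mul_eq_one.1 e).symm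
  have h2 : (Fx h : AddSubgroup V) ≤ Fx (h⁻¹ * S hB δ) := fun w hw => fx_mul (fx_inv hw) (hle hw)
  have h3 := hR.2 _ hne' h2
  have h4 : x ∈ (Fx (h⁻¹ * S hB δ) : AddSubgroup V) := by
    rw [mem_Fx, mul_smul, inv_smul_eq_iff, smul_eq_add hx, smul_eq_add (S_spec hB hx)]
  rw [h3, mem_Fx] at h4
  exact hδ (by rw [← hx, h4, sub_self])

theorem neg_of_R {h : H} (hR : IsR V h) {u : V} (hu : u ∈ (Img h : AddSubgroup V)) : h • u = -u := by
  obtain ⟨x, hx⟩ := mem_Img.1 hu
  rcases eq_or_ne u 0 with rfl | hu0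
  · simp
  · have := (S_neg hB hx).1
    rwa [S_of_R hB hR hu0 hx] at this

theorem sq_of_R {h : H} (hR : IsR V h) : h * h = 1 :=
  FaithfulSMul.eq_of_smul_eq_smul (α := V) fun x => by
    have h1 := neg_of_R hB hR (sub_mem_Img h x)
    rw [smul_sub, sub_eq_iff_eq_add] at h1
    rw [mul_smul, h1, one_smul]
    abel

theorem inv_of_R {h : H} (hR : IsR V h) : h⁻¹ = h := inv_eq_of_mul_eq_one_right (sq_of_R hB hR)

/-- Distinct maximal elements have independent differences. -/
theorem R_unique {h k : H} (hh : IsR V h) (hk : IsR V k) {u : V} (hu : u ≠ 0)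
    (h1 : u ∈ (Img h : AddSubgroup V)) (h2 : u ∈ (Img k : AddSubgroup V)) : h = k := by
  obtain ⟨x, hx⟩ := mem_Img.1 h1
  obtain ⟨y, hy⟩ := mem_Img.1 h2
  rw [← S_of_R hB hh hu hx, ← S_of_R hB hk hu hy]

/-- An element moving a point along a difference of a maximal element acts like it. -/
theorem move_R {h : H} (hR : IsR V h) (g : H) {x : V}
    (hx : g • x - x ∈ (Img h : AddSubgroup V)) : g • x = x ∨ g • x = h • x := by
  rcases eq_or_ne (g • x - x) 0 with h0 | h0
  · exact Or.inl (sub_eq_zero.1 h0)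
  · obtain ⟨y, hy⟩ := mem_Img.1 hx
    refine Or.inr ?_
    have h1 : S hB (g • x - x) • x - x = g • x - x := S_spec hB rfl
    rw [S_of_R hB hR h0 hy] at h1
    exact (sub_left_inj.1 h1).symm

omit hB in
theorem isR_conj {h : H} (hR : IsR V h) (g : H) : IsR V (g * h * g⁻¹) := by
  refine ⟨fun e => hR.1 (conj_eq_one_iff.1 e), fun k hk hle => ?_⟩
  have h1 : (Fx h : AddSubgroup V) ≤ Fx (g⁻¹ * k * g⁻¹⁻¹) := fun w hw => by
    have : g • w ∈ (Fx (g * h * g⁻¹) : AddSubgroup V) := fx_conj.2 (by rwa [inv_smul_smul])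
    exact fx_conj.2 (by rw [inv_inv]; exact hle this)
  have h2 := hR.2 _ (fun e => hk (conj_eq_one_iff.1 e)) h1
  refine le_antisymm (fun w hw => fx_conj.2 ?_) hle
  rw [← h2]
  exact fx_conj.2 (by rwa [inv_inv, smul_inv_smul])

/-- Conjugation between maximal elements. -/
theorem conj_eq {h k : H} (hh : IsR V h) (hk : IsR V k) (g : H) {u : V} (hu : u ∈ (Img h : AddSubgroup V))
    (hu0 : u ≠ 0) (hgu : g • u ∈ (Img k : AddSubgroup V)) : g * h * g⁻¹ = k :=
  R_unique hB (isR_conj hh g) hk (fun e => hu0 ((smul_eq_zero_iff_eq g).1 e)) (img_conj hu) hgu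

theorem comm_of_fixed {h k : H} (hh : IsR V h) {u : V} (hu : u ∈ (Img h : AddSubgroup V))
    (hu0 : u ≠ 0) (hku : k • u = u) : k * h = h * k := by
  have := conj_eq hB hh hh k hu hu0 (by rwa [hku])
  conv_rhs => rw [← this]
  group

/-- A maximal element commuting with another fixes its differences. -/
theorem img_le_fx {h k : H} (hh : IsR V h) (hk : IsR V k) (hne : h ≠ k) (hc : k * h = h * k) :
    (Img h : AddSubgroup V) ≤ Fx k := by
  intro u hu
  have hmem : k • u ∈ (Img h : AddSubgroup V) := by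
    have := img_conj (g := k) hu
    rwa [hc, mul_inv_cancel_right] at this
  rw [mem_Fx]
  rcases move_R hB hh k (AddSubgroup.sub_mem _ hmem hu) with h1 | h1
  · exact h1
  · by_contra h2
    refine hne (R_unique hB hh hk (sub_ne_zero.2 h2) (AddSubgroup.sub_mem _ hmem hu) (sub_mem_Img k u))

theorem img_inf_fx {h k : H} (hh : IsR V h) (hnc : k * h ≠ h * k) :
    (Img h : AddSubgroup V) ⊓ Fx k = ⊥ := by
  rw [AddSubgroup.eq_bot_iff_forall]
  rintro u ⟨hu, hku⟩
  by_contra hu0
  exact hnc (comm_of_fixed hB hh hu hu0 (mem_Fx.1 hku))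

theorem D_mem_of_nc {h k : H} (hh : IsR V h) (hnc : k * h ≠ h * k) {u : V}
    (hu : u ∈ (Img h : AddSubgroup V)) (hu0 : u ≠ 0) : k • u - u ≠ 0 := fun e =>
  hnc (comm_of_fixed hB hh hu hu0 (sub_eq_zero.1 e))

theorem card_img_le {h k : H} [Finite V] (hh : IsR V h) (hnc : k * h ≠ h * k) :
    Nat.card (Img h : AddSubgroup V) ≤ Nat.card (Img k : AddSubgroup V) := by
  refine Nat.card_le_card_of_injective
    (fun u : (Img h : AddSubgroup V) => (⟨k • (u : V) - u, sub_mem_Img k _⟩ : (Img k : AddSubgroup V)))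
    fun a b e => ?_
  have e' : k • (a : V) - a = k • (b : V) - b := congrArg Subtype.val e
  by_contra hne
  refine D_mem_of_nc hB hh hnc (AddSubgroup.sub_mem _ a.2 b.2)
    (sub_ne_zero.2 fun e => hne (Subtype.ext e)) ?_
  rw [smul_sub, sub_sub_sub_comm, e', sub_self]

/-- The semiregular case: the group has at most two elements. -/
theorem card_le_two_of_semiregular [Finite V] [Nontrivial V]
    (hs : ∀ g : H, g ≠ 1 → (Fx g : AddSubgroup V) = ⊥) : ∀ h k : H, h ≠ 1 → k ≠ 1 → h = k := by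
  intro h k hh hk
  by_contra hne
  obtain ⟨a, ha⟩ := exists_ne (0 : V)
  have hinj : ∀ g : H, g ≠ 1 → ∀ z : V, g • z = z → z = 0 := fun g hg z hz => by
    have := mem_Fx.2 hz
    rwa [hs g hg, AddSubgroup.mem_bot] at this
  obtain ⟨b, hb⟩ := Finite.surjective_of_injective (f := fun z : V => k • z - z) (fun z w e => by
    refine sub_eq_zero.1 (hinj k hk _ ?_)
    rw [smul_sub, ← sub_eq_zero, sub_sub_sub_comm, sub_eq_zero]
    exact e) (h • a - a)
  have hb' : k • b - b = h • a - a := hb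
  set δ := h • a - a with hδ
  have hδ0 : δ ≠ 0 := fun e => ha (hinj h hh a (sub_eq_zero.1 e))
  have key : ∀ g : H, g ≠ 1 → ∀ z : V, g • z - z = δ → S hB δ = g := fun g hg z hz => by
    by_contra hne'
    refine hδ0 ?_
    have hne'' : g⁻¹ * S hB δ ≠ 1 := fun e => hne' (inv_mul_eq_one.1 e).symm
    have hz0 : z = 0 := hinj _ hne'' z (by
      rw [mul_smul, inv_smul_eq_iff, smul_eq_add hz, smul_eq_add (S_spec hB hz)])
    rw [← hz, hz0, smul_zero, sub_self]
  exact hne ((key h hh a rfl).symm.trans (key k hk b hb'))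

end

end CfsgLib.BinaryAffine
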