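/-
Binary affine groups: two non-commuting maximal elements have differences filling a space `P` which
complements their common fixed points `M`.
-/
import Cfsg.Agent.Lib.Perm.BinaryAffine.Basic

set_option autoImplicit false
set_option linter.unusedSectionVars false

namespace CfsgLib.BinaryAffine

variable {H V : Type*} [Group H] [AddCommGroup V] [DistribMulAction H V]

theorem card_sup_of_disjoint {U W : AddSubgroup V} (h : U ⊓ W = ⊥) :
    Nat.card ↥(U ⊔ W) = Nat.card U * Nat.card W := by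
  rw [← Nat.card_prod]
  symm
  refine Nat.card_congr (Equiv.ofBijective
    (fun z => (⟨(z.1 : V) + z.2, AddSubgroup.mem_sup.2 ⟨_, z.1.2, _, z.2.2, rfl⟩⟩ : ↥(U ⊔ W))) ⟨?_, ?_⟩)
  · rintro ⟨a, b⟩ ⟨c, d⟩ e
    have e' : (a : V) + b = c + d := congrArg Subtype.val e
    have h1 : (a : V) - c = d - b := by
      rw [sub_eq_sub_iff_add_eq_add, e']
      abel
    have h2 : (a : V) - c ∈ U ⊓ W := ⟨U.sub_mem a.2 c.2, h1 ▸ W.sub_mem d.2 b.2⟩
    rw [h, AddSubgroup.mem_bot] at h2
    exact Prod.ext (Subtype.ext (sub_eq_zero.1 h2)) (Subtype.ext (sub_eq_zero.1 (h1.symm.trans h2)).symm)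
  · rintro ⟨x, hx⟩
    obtain ⟨a, ha, b, hb, e⟩ := AddSubgroup.mem_sup.1 hx
    exact ⟨(⟨a, ha⟩, ⟨b, hb⟩), Subtype.ext e⟩

theorem eq_top_of_card [Finite V] {U : AddSubgroup V} (h : Nat.card V ≤ Nat.card U) : U = ⊤ :=
  AddSubgroup.eq_top_of_le_card U h

theorem eq_of_le_of_card [Finite V] {U W : AddSubgroup V} (hle : U ≤ W) (h : Nat.card W ≤ Nat.card U) :
    U = W := by
  refine le_antisymm hle fun x hx => ?_
  have h1 : Function.Surjective (AddSubgroup.inclusion hle) :=
    ((Nat.bijective_iff_injective_and_card _).2 ⟨AddSubgroup.inclusion_injective hle,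
      le_antisymm (Nat.card_le_card_of_injective _ (AddSubgroup.inclusion_injective hle)) h⟩).2
  obtain ⟨y, hy⟩ := h1 ⟨x, hx⟩
  have : (y : V) = x := congrArg Subtype.val hy
  exact this ▸ y.2

/-- The setting: binary, and no mixture of characteristics. -/
structure BA (H V : Type*) [Group H] [AddCommGroup V] [DistribMulAction H V] : Prop where
  bin : Bin H V
  two : (∀ x : V, x + x = 0) ∨ (∀ x : V, x + x = 0 → x = 0)

/-- Two non-commuting maximal elements. -/
structure Pair (h k : H) (V : Type*) [AddCommGroup V] [DistribMulAction H V] : Prop where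
  ba : BA H V
  hh : IsR V h
  hk : IsR V k
  nc : k * h ≠ h * k

theorem Pair.symm {h k : H} (C : Pair h k V) : Pair k h V := ⟨C.ba, C.hk, C.hh, C.nc.symm⟩

/-- The space of differences. -/
def P (V : Type*) [AddCommGroup V] [DistribMulAction H V] (h k : H) : AddSubgroup V := Img h ⊔ Img k

/-- The common fixed points. -/
def M (V : Type*) [AddCommGroup V] [DistribMulAction H V] (h k : H) : AddSubgroup V := Fx h ⊓ Fx k

variable [FaithfulSMul H V] [Finite V] {h k : H}

section

variable (C : Pair h k V)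
include C

theorem Pair.ne : h ≠ k := fun e => C.nc (by rw [e])

theorem Pair.card_img : Nat.card (Img k : AddSubgroup V) = Nat.card (Img h : AddSubgroup V) :=
  le_antisymm (card_img_le C.ba.bin C.hk C.nc.symm) (card_img_le C.ba.bin C.hh C.nc)

theorem Pair.img_inf : (Img h : AddSubgroup V) ⊓ Img k = ⊥ := by
  rw [AddSubgroup.eq_bot_iff_forall]
  rintro u ⟨hu, hu'⟩
  by_contra hu0
  exact C.ne (R_unique C.ba.bin C.hh C.hk hu0 hu hu')

theorem Pair.img_fx : (Img h : AddSubgroup V) ⊓ Fx k = ⊥ := img_inf_fx C.ba.bin C.hh C.nc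

theorem Pair.card_P : Nat.card (P V h k) =
    Nat.card (Img h : AddSubgroup V) * Nat.card (Img h : AddSubgroup V) := by
  rw [P, card_sup_of_disjoint C.img_inf, C.card_img]

theorem Pair.P_smul {x : V} (hx : x ∈ P V h k) : h • x ∈ P V h k ∧ k • x ∈ P V h k := by
  constructor
  · rw [show h • x = x + (h • x - x) by abel]
    exact AddSubgroup.add_mem _ hx (AddSubgroup.mem_sup_left (sub_mem_Img h x))
  · rw [show k • x = x + (k • x - x) by abel]
    exact AddSubgroup.add_mem _ hx (AddSubgroup.mem_sup_right (sub_mem_Img k x))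

/-- Fixed points of the product are the common fixed points. -/
theorem Pair.mem_M_of_fx {x : V} (hx : x ∈ (Fx (h * k) : AddSubgroup V)) : x ∈ M V h k := by
  rw [mem_Fx, mul_smul] at hx
  have h1 : k • x = h • x := by
    conv_rhs => rw [← hx]
    rw [← mul_smul, sq_of_R C.ba.bin C.hh, one_smul]
  have h2 : h • x - x ∈ (Img h : AddSubgroup V) ⊓ Img k := ⟨sub_mem_Img h x, h1 ▸ sub_mem_Img k x⟩
  rw [C.img_inf, AddSubgroup.mem_bot, sub_eq_zero] at h2
  exact ⟨mem_Fx.2 h2, mem_Fx.2 (h1.trans h2)⟩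

theorem Pair.M_P : M V h k ⊓ P V h k = ⊥ := by
  have hB := C.ba.bin
  rw [AddSubgroup.eq_bot_iff_forall]
  rintro m ⟨⟨hmh, hmk⟩, hmP⟩
  obtain ⟨u, hu, v, hv, rfl⟩ := AddSubgroup.mem_sup.1 hmP
  have hhu := neg_of_R hB C.hh hu
  have hkv := neg_of_R hB C.hk hv
  have h1 : h • v = u + u + v := by
    have := mem_Fx.1 hmh
    rw [smul_add, hhu, neg_add_eq_iff_eq_add] at this
    rw [this]
    abel
  have h2 : k • u = u + (v + v) := by
    have := mem_Fx.1 hmk
    rw [smul_add, hkv, add_neg_eq_iff_eq_add] at this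
    rw [this]
    abel
  rcases C.ba.two with h0 | h0
  · rw [h0, zero_add] at h1
    rw [h0, add_zero] at h2
    have hv0 : v ∈ (Img k : AddSubgroup V) ⊓ Fx h := ⟨hv, mem_Fx.2 h1⟩
    have hu0 : u ∈ (Img h : AddSubgroup V) ⊓ Fx k := ⟨hu, mem_Fx.2 h2⟩
    rw [C.img_fx, AddSubgroup.mem_bot] at hu0
    rw [C.symm.img_fx, AddSubgroup.mem_bot] at hv0
    rw [hu0, hv0, add_zero]
  · have hg : (h * k) • u - u = (u + v) + (u + v) := by
      rw [mul_smul, h2, smul_add, hhu, smul_add, h1]
      abel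
    have hf : (u + v) + (u + v) ∈ (Fx (h * k) : AddSubgroup V) :=
      fx_mul (AddSubgroup.add_mem _ hmh hmh) (AddSubgroup.add_mem _ hmk hmk)
    exact h0 _ (h0 _ (two_of_fixed hB ⟨u, hg⟩ hf))

theorem Pair.card_M : Nat.card (M V h k) * Nat.card (P V h k) = Nat.card V := by
  refine le_antisymm ?_ ?_
  · rw [← card_sup_of_disjoint C.M_P]
    exact Nat.card_le_card_of_injective _ Subtype.val_injective
  · let f : V →+ V × V := (D h).prod (D k)
    have h1 := AddSubgroup.card_eq_card_quotient_mul_card_addSubgroup f.ker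
    rw [Nat.card_congr (QuotientAddGroup.quotientKerEquivRange f).toEquiv] at h1
    have h2 : f.ker = M V h k := by
      ext x
      simp [f, M, Fx, AddMonoidHom.mem_ker]
    have h3 : Nat.card f.range ≤ Nat.card (Img h : AddSubgroup V) * Nat.card (Img k : AddSubgroup V) := by
      rw [← Nat.card_prod]
      refine Nat.card_le_card_of_injective
        (fun z => ((⟨z.1.1, ?_⟩ : (Img h : AddSubgroup V)), (⟨z.1.2, ?_⟩ : (Img k : AddSubgroup V)))) ?_
      · obtain ⟨x, hx⟩ := z.2
        exact ⟨x, congrArg Prod.fst hx⟩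
      · obtain ⟨x, hx⟩ := z.2
        exact ⟨x, congrArg Prod.snd hx⟩
      · intro a b e
        simp only [Prod.mk.injEq, Subtype.mk.injEq] at e
        exact Subtype.ext (Prod.ext e.1 e.2)
    rw [C.card_img] at h3
    rw [h1, h2, C.card_P, mul_comm (Nat.card (M V h k))]
    exact Nat.mul_le_mul_right _ h3

theorem Pair.decomp (x : V) : ∃ m ∈ M V h k, ∃ p ∈ P V h k, m + p = x := by
  have : M V h k ⊔ P V h k = ⊤ := eq_top_of_card (by rw [card_sup_of_disjoint C.M_P, C.card_M])
  exact AddSubgroup.mem_sup.1 (this ▸ AddSubgroup.mem_top x)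

theorem Pair.img_mul : (Img (h * k) : AddSubgroup V) = P V h k := by
  refine eq_of_le_of_card ?_ ?_
  · rintro _ ⟨x, rfl⟩
    rw [D_apply, mul_smul, show h • k • x - x = (h • k • x - k • x) + (k • x - x) by abel]
    exact AddSubgroup.add_mem _ (AddSubgroup.mem_sup_left (sub_mem_Img h _))
      (AddSubgroup.mem_sup_right (sub_mem_Img k x))
  · have h1 := card_Fx_mul_Img (V := V) (h * k)
    have h2 : Nat.card (Fx (h * k) : AddSubgroup V) ≤ Nat.card (M V h k) :=
      Nat.card_le_card_of_injective _ (AddSubgroup.inclusion_injective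
        (fun x hx => C.mem_M_of_fx hx : (Fx (h * k) : AddSubgroup V) ≤ M V h k))
    have h3 := C.card_M
    have hp : 0 < Nat.card (Fx (h * k) : AddSubgroup V) := Nat.card_pos
    refine Nat.le_of_mul_le_mul_left ?_ hp
    rw [h1, ← h3]
    exact Nat.mul_le_mul_right _ h2

/-- Every vector of `P` is moved to a translate by the product. -/
theorem Pair.exists_move {δ : V} (hδ : δ ∈ P V h k) : ∃ x ∈ P V h k, (h * k) • x - x = δ := by
  rw [← C.img_mul] at hδ
  obtain ⟨y, hy⟩ := mem_Img.1 hδ
  obtain ⟨m, hm, p, hp, rfl⟩ := C.decomp y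
  refine ⟨p, hp, ?_⟩
  rw [smul_add, mem_Fx.1 (fx_mul hm.1 hm.2)] at hy
  rw [← hy]
  abel

theorem Pair.card_fx : Nat.card (Fx h : AddSubgroup V) * Nat.card (Img h : AddSubgroup V) = Nat.card V :=
  card_Fx_mul_Img h

theorem Pair.card_fx_eq :
    Nat.card (Fx h : AddSubgroup V) = Nat.card (M V h k) * Nat.card (Img h : AddSubgroup V) := by
  have h1 := C.card_fx
  rw [← C.card_M, C.card_P, ← mul_assoc] at h1
  exact Nat.eq_of_mul_eq_mul_right Nat.card_pos h1

end

/-- In characteristic two, a third iterated difference vanishes only with the second. -/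
theorem three_step {H V : Type*} [Group H] [AddCommGroup V] [DistribMulAction H V] (hB : Bin H V)
    (h0 : ∀ x : V, x + x = 0) (g : H) (y : V) (h3 : D g (D g (D g y)) = 0) : D g (D g y) = 0 := by
  simp only [D_apply] at h3 ⊢
  set ε := g • y - y with hε
  set η := g • ε - ε with hη
  by_contra hη0
  have hgy : g • y = y + ε := smul_eq_add rfl
  have hgε : g • ε = ε + η := smul_eq_add rfl
  have hgη : g • η = η := sub_eq_zero.1 h3
  have hgg : (g * g) • y - y = η := by
    rw [mul_smul, hgy, smul_add, hgy, hgε, show y + ε + (ε + η) - y = (ε + ε) + η by abel, h0, zero_add]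
  set s := S hB ε
  have hs1 : s • y = y + ε := smul_eq_add (S_spec hB (g := g) rfl)
  have hs2 : s • ε = ε := by
    rw [(S_neg hB (g := g) (x := y) rfl).1, neg_eq_iff_add_eq_zero, h0]
  have hsη : s • η = η := mem_Fx.1 (S_fix hB (g := g) (x := y) rfl (mem_Fx.2 hgη))
  have ht1 : (s⁻¹ * g) • ε - ε = η := by
    rw [mul_smul, hgε, smul_add, inv_smul_eq_iff.2 hs2.symm, inv_smul_eq_iff.2 hsη.symm, add_sub_cancel_left]
  have ht2 : y ∈ (Fx (s⁻¹ * g) : AddSubgroup V) := by
    rw [mem_Fx, mul_smul, inv_smul_eq_iff, hgy, hs1]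
  have h4 := smul_eq_add (S_spec hB hgg)
  rw [mem_Fx.1 (S_fix hB ht1 ht2), left_eq_add] at h4
  exact hη0 h4

/-- In characteristic two, translations are given by involutions. -/
theorem exists_invol {H V : Type*} [Group H] [AddCommGroup V] [DistribMulAction H V] [Finite H]
    [FaithfulSMul H V] (hB : Bin H V) (h0 : ∀ x : V, x + x = 0) {g : H} {x δ : V} (hx : g • x - x = δ) :
    ∃ s : H, s * s = 1 ∧ s • x - x = δ ∧ (Fx g : AddSubgroup V) ≤ Fx s ∧ s • δ = δ := by
  obtain ⟨a, m, hm, ho⟩ := Nat.exists_eq_two_pow_mul_odd (orderOf_pos (S hB δ)).ne'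
  set s := S hB δ
  have hs1 : s • x = x + δ := smul_eq_add (S_spec hB hx)
  have hs2 : s • (x + δ) = x := (S_neg hB hx).2
  have hsδ : s • δ = δ := by rw [(S_neg hB hx).1, neg_eq_iff_add_eq_zero, h0]
  obtain ⟨j, rfl⟩ := hm
  set t := s ^ (2 * j + 1)
  have ht1 : t • x = x + δ := by
    have : ∀ i : ℕ, s ^ (2 * i + 1) • x = x + δ := by
      intro i
      induction i with
      | zero => simpa using hs1
      | succ i ih =>
        rw [show 2 * (i + 1) + 1 = (1 + 1) + (2 * i + 1) by ring, pow_add, mul_smul, ih, pow_add,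
          pow_one, mul_smul, hs2, hs1]
    exact this j
  have htfix : ∀ w : V, s • w = w → t • w = w := fun w hw => by
    have : ∀ i : ℕ, s ^ i • w = w := by
      intro i
      induction i with
      | zero => simp
      | succ i ih => rw [pow_succ, mul_smul, hw, ih]
    exact this _
  refine ⟨t, ?_, by rw [ht1, add_sub_cancel_left], fun w hw => mem_Fx.2
    (htfix w (mem_Fx.1 (S_fix hB hx hw))), htfix δ hsδ⟩
  have htp : t ^ 2 ^ a = 1 := by
    rw [← pow_mul, mul_comm, ← ho, pow_orderOf_eq_one]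
  have hD : ∀ (i : ℕ) (y : V), (t ^ 2 ^ i) • y - y = (D (V := V) t)^[2 ^ i] y := by
    intro i
    induction i with
    | zero => intro y; simp [D_apply]
    | succ i ih =>
      intro y
      rw [pow_succ, mul_two, Function.iterate_add_apply, ← ih, ← ih, pow_add, mul_smul]
      set w := t ^ 2 ^ i • y
      rw [smul_sub, show t ^ 2 ^ i • w - t ^ 2 ^ i • y - (w - y) = t ^ 2 ^ i • w - (w + w) + y by abel,
        h0, sub_zero, sub_eq_add_neg, neg_eq_iff_add_eq_zero.2 (h0 y)]
  have hnil : ∀ y : V, (D (V := V) t)^[2 ^ a] y = 0 := fun y => by rw [← hD a y, htp, one_smul, sub_self]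
  have hdesc : ∀ n : ℕ, (∀ y : V, (D (V := V) t)^[n + 2] y = 0) → ∀ y : V, D t (D t y) = 0 := by
    intro n
    induction n with
    | zero => exact fun h y => h y
    | succ n ih =>
      refine fun h => ih fun y => ?_
      rw [Function.iterate_succ_apply', Function.iterate_succ_apply']
      refine three_step hB h0 t _ ?_
      rw [← Function.iterate_succ_apply' (f := D t), ← Function.iterate_succ_apply' (f := D t),
        ← Function.iterate_succ_apply' (f := D t)]
      exact h y
  have hDD : ∀ y : V, D t (D t y) = 0 := hdesc (2 ^ a) fun y => by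
    rw [add_comm, Function.iterate_add_apply, hnil]
    simp
  refine FaithfulSMul.eq_of_smul_eq_smul (α := V) fun y => ?_
  have h5 := hD 1 y
  rw [pow_one, pow_two] at h5
  rw [one_smul, ← sub_eq_zero, h5]
  exact hDD y

end CfsgLib.BinaryAffine
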