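/-
Binary affine groups: the maximal elements fixing `M` pointwise have differences covering `P`.
-/
import Cfsg.Agent.Lib.Perm.BinaryAffine.Pair

set_option autoImplicit false
set_option linter.unusedSectionVars false

namespace CfsgLib.BinaryAffine

variable {H V : Type*} [Group H] [AddCommGroup V] [DistribMulAction H V]
variable {h k : H}

/-- The maximal elements fixing `M`. -/
def InN (V : Type*) [AddCommGroup V] [DistribMulAction H V] (h k n : H) : Prop :=
  IsR V n ∧ M V h k ≤ Fx n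

variable [FaithfulSMul H V]

theorem exists_nonzero_img {n : H} (hn : n ≠ 1) : ∃ u ∈ (Img n : AddSubgroup V), u ≠ 0 := by
  by_contra hc
  push Not at hc
  refine hn (eq_one_of_fx (V := V) ?_)
  ext x
  simp only [AddSubgroup.mem_top, iff_true, mem_Fx]
  exact sub_eq_zero.1 (hc _ (sub_mem_Img n x))

variable [Finite V]

section

variable (C : Pair h k V)
include C

theorem Pair.inN_left : InN V h k h := ⟨C.hh, inf_le_left⟩

theorem Pair.inN_right : InN V h k k := ⟨C.hk, inf_le_right⟩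

theorem Pair.two_img (hne : ¬ ∀ x : V, x + x = 0) {n : H} (hn : IsR V n) {u : V}
    (hu : u ∈ (Img n : AddSubgroup V)) (hfu : n • u = u) : u = 0 := by
  have h0 := C.ba.two.resolve_left hne
  rw [neg_of_R C.ba.bin hn hu, neg_eq_iff_add_eq_zero] at hfu
  exact h0 u hfu

/-- A member does not commute with both. -/
theorem Pair.exists_nc {n : H} (hn : InN V h k n) :
    ∃ j, InN V h k j ∧ (j = h ∨ j = k) ∧ j * n ≠ n * j := by
  rcases eq_or_ne n h with rfl | hnh
  · exact ⟨k, C.inN_right, Or.inr rfl, C.nc⟩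
  rcases eq_or_ne n k with rfl | hnk
  · exact ⟨h, C.inN_left, Or.inl rfl, C.nc.symm⟩
  by_contra hc
  push Not at hc
  have h1 := hc h C.inN_left (Or.inl rfl)
  have h2 := hc k C.inN_right (Or.inr rfl)
  refine hn.1.1 (eq_one_of_fx (V := V) (eq_top_iff.2 fun x _ => ?_))
  obtain ⟨m, hm, p, hp, rfl⟩ := C.decomp x
  have hle : P V h k ≤ Fx n := by
    refine sup_le ?_ ?_
    · exact img_le_fx C.ba.bin C.hh hn.1 hnh.symm h1.symm
    · exact img_le_fx C.ba.bin C.hk hn.1 hnk.symm h2.symm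
  exact AddSubgroup.add_mem _ (hn.2 hm) (hle hp)

theorem Pair.of_nc {n n' : H} (hn : InN V h k n) (hn' : InN V h k n') (hne : n' * n ≠ n * n')
    (hcard : Nat.card (Img n : AddSubgroup V) = Nat.card (Img h : AddSubgroup V)) :
    M V n n' = M V h k := by
  have D : Pair n n' V := ⟨C.ba, hn.1, hn'.1, hne⟩
  symm
  refine eq_of_le_of_card (le_inf hn.2 hn'.2) ?_
  have h1 := C.card_M
  have h2 := D.card_M
  rw [C.card_P] at h1
  rw [D.card_P, hcard] at h2
  exact (Nat.eq_of_mul_eq_mul_right (Nat.mul_pos Nat.card_pos Nat.card_pos) (h2.trans h1.symm)).le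

theorem Pair.card_img_inN {n : H} (hn : InN V h k n) :
    Nat.card (Img n : AddSubgroup V) = Nat.card (Img h : AddSubgroup V) := by
  obtain ⟨j, hj, hjhk, hnc⟩ := C.exists_nc hn
  have D : Pair n j V := ⟨C.ba, hn.1, hj.1, hnc⟩
  rw [← D.card_img]
  rcases hjhk with rfl | rfl
  · rfl
  · exact C.card_img

theorem Pair.pair_of {n n' : H} (hn : InN V h k n) (hn' : InN V h k n') (hne : n' * n ≠ n * n') :
    Pair n n' V ∧ M V n n' = M V h k :=
  ⟨⟨C.ba, hn.1, hn'.1, hne⟩, C.of_nc hn hn' hne (C.card_img_inN hn)⟩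

theorem Pair.card_fx_inN {n : H} (hn : InN V h k n) :
    Nat.card (Fx n : AddSubgroup V) = Nat.card (M V h k) * Nat.card (Img h : AddSubgroup V) := by
  obtain ⟨j, hj, -, hnc⟩ := C.exists_nc hn
  obtain ⟨D, hM⟩ := C.pair_of hn hj hnc
  rw [D.card_fx_eq, hM, C.card_img_inN hn]

theorem Pair.img_M {n : H} (hn : InN V h k n) : (Img n : AddSubgroup V) ⊓ M V h k = ⊥ := by
  obtain ⟨j, hj, -, hnc⟩ := C.exists_nc hn
  obtain ⟨D, hM⟩ := C.pair_of hn hj hnc
  rw [← hM, eq_bot_iff, ← D.M_P, inf_comm]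
  exact inf_le_inf_left _ le_sup_left

/-- Two members with a common fixed point outside `M`. -/
theorem Pair.inter {n n' : H} (hn : InN V h k n) (hn' : InN V h k n') (hne : n ≠ n') {x : V}
    (hx : x ∈ (Fx n : AddSubgroup V)) (hx' : x ∈ (Fx n' : AddSubgroup V)) (hxM : x ∉ M V h k) :
    (∀ y : V, y + y = 0) ∧ (Fx n : AddSubgroup V) = Fx n' := by
  have hc : n' * n = n * n' := by
    by_contra hnc
    exact hxM ((C.pair_of hn hn' hnc).2 ▸ ⟨hx, hx'⟩)
  have key : ∀ a b : H, InN V h k a → InN V h k b → (Img b : AddSubgroup V) ≤ Fx a →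
      (Img b : AddSubgroup V) ⊔ M V h k = Fx a := by
    intro a b ha hb hle
    refine eq_of_le_of_card (sup_le hle ha.2) ?_
    rw [card_sup_of_disjoint (C.img_M hb), C.card_fx_inN ha, C.card_img_inN hb, mul_comm]
  have h1 := key n n' hn hn' (img_le_fx C.ba.bin hn'.1 hn.1 hne.symm hc.symm)
  have h2 := key n' n hn' hn (img_le_fx C.ba.bin hn.1 hn'.1 hne hc)
  by_cases h0 : ∀ y : V, y + y = 0
  · refine ⟨h0, ?_⟩
    have h3 := key n n hn hn fun u hu => mem_Fx.2 (by
      rw [neg_of_R C.ba.bin hn.1 hu, neg_eq_iff_add_eq_zero, h0])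
    rw [← h3, h2]
  · exfalso
    rw [← h1] at hx
    obtain ⟨u, hu, m, hm, rfl⟩ := AddSubgroup.mem_sup.1 hx
    have hu' : n' • u = u := by
      have := mem_Fx.1 hx'
      rwa [smul_add, mem_Fx.1 (hn'.2 hm), add_left_inj] at this
    rw [C.two_img h0 hn'.1 hu hu', zero_add] at hxM
    exact hxM hm

/-- A member above an element fixing `M`. -/
theorem Pair.exists_over [Finite H] {e : H} (he : e ≠ 1) (hM : M V h k ≤ Fx e) :
    ∃ n, InN V h k n ∧ (Fx e : AddSubgroup V) ≤ Fx n := by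
  obtain ⟨n, hn, hle⟩ := exists_isR (V := V) he
  exact ⟨n, ⟨hn, hM.trans hle⟩, hle⟩

/-- No point is moved by a non-zero vector of `M`. -/
theorem Pair.eq_of_sub_mem_M [Finite H] {e : H} (he : M V h k ≤ Fx e) {x : V}
    (hx : e • x - x ∈ M V h k) : e • x = x := by
  have hB := C.ba.bin
  rw [← sub_eq_zero]
  by_contra hz0
  set z := e • x - x with hz
  by_cases h0 : ∀ y : V, y + y = 0
  swap
  · exact hz0 ((C.ba.two.resolve_left h0) _ (two_of_fixed hB (sub_mem_Img e x) (he hx)))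
  set s := S hB z with hs
  have hMs : M V h k ≤ Fx s := he.trans (S_fix hB (g := e) (x := x) rfl)
  have hsx : s • x - x = z := S_spec hB (g := e) rfl
  have hinv : ∀ j : H, j • z = z → ∀ w ∈ (Fx s : AddSubgroup V),
      j • (x + w) - x ∈ (Fx s : AddSubgroup V) := by
    intro j hj w hw
    refine S_fix_S hB (g := j * s * j⁻¹) ?_ (g' := e) rfl
    rw [mul_smul, mul_smul, inv_smul_smul, ← smul_sub, smul_add, mem_Fx.1 hw, add_sub_add_right_eq_sub,
      hsx, hj]
  have hfix : ∀ j : H, j • z = z → (j • x - x ∈ (Fx s : AddSubgroup V) ∧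
      ∀ w ∈ (Fx s : AddSubgroup V), j • w ∈ (Fx s : AddSubgroup V)) := by
    intro j hj
    have h1 : j • x - x ∈ (Fx s : AddSubgroup V) := by simpa using hinv j hj 0 (AddSubgroup.zero_mem _)
    refine ⟨h1, fun w hw => ?_⟩
    rw [show j • w = (j • (x + w) - x) - (j • x - x) by rw [smul_add]; abel]
    exact AddSubgroup.sub_mem _ (hinv j hj w hw) h1
  have hhz := hfix h (mem_Fx.1 hx.1)
  have hkz := hfix k (mem_Fx.1 hx.2)
  by_cases hsM : (Fx s : AddSubgroup V) ≤ M V h k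
  · have hgx : (h * k) • x - x ∈ (Fx s : AddSubgroup V) := by
      rw [mul_smul, show h • k • x - x = h • (k • x - x) + (h • x - x) by rw [smul_sub]; abel]
      exact AddSubgroup.add_mem _ (hhz.2 _ hkz.1) hhz.1
    have h1 : (h * k) • x - x ∈ M V h k ⊓ P V h k := ⟨hsM hgx, C.img_mul ▸ sub_mem_Img _ x⟩
    rw [C.M_P, AddSubgroup.mem_bot, sub_eq_zero] at h1
    exact hz0 (sub_eq_zero.2 (mem_Fx.1 (he (C.mem_M_of_fx (mem_Fx.2 h1)))))
  · obtain ⟨y, hy, hyM⟩ := SetLike.not_le_iff_exists.1 hsM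
    have hmeet : ∀ j, InN V h k j → (∀ w ∈ (Fx s : AddSubgroup V), j • w ∈ (Fx s : AddSubgroup V)) →
        ∃ w ∈ (Fx s : AddSubgroup V), w ∈ (Fx j : AddSubgroup V) ∧ w ∉ M V h k := by
      intro j hj hjs
      by_cases hd : j • y - y = 0
      · exact ⟨y, hy, mem_Fx.2 (sub_eq_zero.1 hd), hyM⟩
      · refine ⟨j • y - y, AddSubgroup.sub_mem _ (hjs y hy) hy, mem_Fx.2 ?_, fun hm => hd ?_⟩
        · rw [neg_of_R hB hj.1 (sub_mem_Img j y), neg_eq_iff_add_eq_zero, h0]
        · have : j • y - y ∈ (Img j : AddSubgroup V) ⊓ M V h k := ⟨sub_mem_Img j y, hm⟩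
          rwa [C.img_M hj, AddSubgroup.mem_bot] at this
    obtain ⟨n, hn, hle⟩ := C.exists_over (ne_one_of_sub hz0 hsx) hMs
    have heq : ∀ j, InN V h k j → (∀ w ∈ (Fx s : AddSubgroup V), j • w ∈ (Fx s : AddSubgroup V)) →
        (Fx n : AddSubgroup V) = Fx j := by
      intro j hj hjs
      obtain ⟨w, hw, hwj, hwM⟩ := hmeet j hj hjs
      rcases eq_or_ne n j with e | hne
      · rw [e]
      · exact (C.inter hn hj hne (hle hw) hwj hwM).2
    have hhk := (heq h C.inN_left hhz.2).symm.trans (heq k C.inN_right hkz.2)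
    obtain ⟨u, hu, hu0⟩ := exists_nonzero_img (V := V) C.hh.1
    have : u ∈ (Img h : AddSubgroup V) ⊓ Fx k := ⟨hu, hhk ▸ mem_Fx.2 (by
      rw [neg_of_R hB C.hh hu, neg_eq_iff_add_eq_zero, h0])⟩
    rw [C.img_fx, AddSubgroup.mem_bot] at this
    exact hu0 this

/-- In characteristic two a vector outside `M` moving a point is a difference of a member. -/
theorem Pair.cover_two [Finite H] (h0 : ∀ y : V, y + y = 0) {e : H} (he : M V h k ≤ Fx e) {x : V}
    (hx : e • x - x ∉ M V h k) : ∃ n, InN V h k n ∧ n • x - x = e • x - x := by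
  obtain ⟨s, hss, hsx, hle, -⟩ := exists_invol C.ba.bin h0 (g := e) (x := x) rfl
  have hMs : M V h k ≤ Fx s := he.trans hle
  have hs1 : s ≠ 1 := ne_one_of_sub (fun e0 => hx (by rw [e0]; exact AddSubgroup.zero_mem _)) hsx
  have hd : (Img s : AddSubgroup V) ⊓ M V h k = ⊥ := by
    rw [AddSubgroup.eq_bot_iff_forall]
    rintro z ⟨⟨y, rfl⟩, hzM⟩
    exact sub_eq_zero.2 (C.eq_of_sub_mem_M hMs hzM)
  have hsub : (Img s : AddSubgroup V) ⊔ M V h k ≤ Fx s := by
    refine sup_le ?_ hMs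
    rintro _ ⟨y, rfl⟩
    rw [mem_Fx, D_apply, smul_sub, ← mul_smul, hss, one_smul, ← sub_eq_zero,
      show y - s • y - (s • y - y) = (y + y) - (s • y + s • y) by abel, h0, h0, sub_zero]
  have h1 : Nat.card ↥((Img s : AddSubgroup V) ⊔ M V h k) ≤ Nat.card (Fx s : AddSubgroup V) :=
    Nat.card_le_card_of_injective _ (AddSubgroup.inclusion_injective hsub)
  rw [card_sup_of_disjoint hd] at h1
  obtain ⟨n, hn, hsn⟩ := C.exists_over hs1 hMs
  have h2 := card_Fx_mul_Img (V := V) s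
  have h3 := C.card_M
  rw [C.card_P] at h3
  have h4 : Nat.card (Fx n : AddSubgroup V) ≤ Nat.card (Fx s : AddSubgroup V) := by
    rw [C.card_fx_inN hn]
    refine Nat.mul_self_le_mul_self_iff.1 ?_
    calc _ = Nat.card V * Nat.card (M V h k) := by rw [← h3]; ring
      _ = Nat.card (Fx s : AddSubgroup V) * (Nat.card (Img s : AddSubgroup V) * Nat.card (M V h k)) := by
          rw [← h2]; ring
      _ ≤ _ := Nat.mul_le_mul_left _ h1
  have hFs := eq_of_le_of_card hsn h4
  exact ⟨s, ⟨⟨hs1, fun j hj hle' => (hn.1.2 j hj (hFs ▸ hle')).trans hFs.symm⟩, hMs⟩, hsx⟩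

theorem Pair.dichotomy (hne : ¬ ∀ y : V, y + y = 0) {s n : H} (hn : IsR V n) (hc : s * n = n * s) :
    (∀ u ∈ (Img n : AddSubgroup V), s • u = u) ∨ (∀ u ∈ (Img n : AddSubgroup V), s • u = -u) := by
  have hpm : ∀ u ∈ (Img n : AddSubgroup V), s • u = u ∨ s • u = -u := fun u hu => by
    have hmem : s • u ∈ (Img n : AddSubgroup V) := by
      have := img_conj (g := s) hu
      rwa [hc, mul_inv_cancel_right] at this
    refine (move_R C.ba.bin hn s (AddSubgroup.sub_mem _ hmem hu)).imp_right fun h1 => ?_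
    rw [h1, neg_of_R C.ba.bin hn hu]
  have h2 := C.ba.two.resolve_left hne
  by_contra hcon
  push Not at hcon
  obtain ⟨⟨a, ha, ha'⟩, b, hb, hb'⟩ := hcon
  have ha1 := (hpm a ha).resolve_left ha'
  have hb1 := (hpm b hb).resolve_right hb'
  rcases hpm (a + b) (AddSubgroup.add_mem _ ha hb) with h1 | h1 <;>
    rw [smul_add, ha1, hb1] at h1
  · rw [add_left_inj, neg_eq_iff_add_eq_zero] at h1
    exact ha' (by rw [h2 a h1, smul_zero])
  · rw [neg_add, add_right_inj, eq_neg_iff_add_eq_zero] at h1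
    exact hb' (by rw [h2 b h1, smul_zero, neg_zero])

/-- Every vector of `P` is a difference of a member. -/
theorem Pair.cover [Finite H] {δ : V} (hδ : δ ∈ P V h k) (hδ0 : δ ≠ 0) :
    ∃ n, InN V h k n ∧ δ ∈ (Img n : AddSubgroup V) := by
  have hB := C.ba.bin
  obtain ⟨x, hxP, hx⟩ := C.exists_move hδ
  have hMg : M V h k ≤ Fx (h * k) := fun m hm => fx_mul hm.1 hm.2
  by_cases h0 : ∀ y : V, y + y = 0
  · have hδM : δ ∉ M V h k := fun hm => hδ0 (by
      have : δ ∈ M V h k ⊓ P V h k := ⟨hm, hδ⟩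
      rwa [C.M_P, AddSubgroup.mem_bot] at this)
    obtain ⟨n, hn, hnx⟩ := C.cover_two h0 hMg (x := x) (hx ▸ hδM)
    exact ⟨n, hn, hx ▸ hnx ▸ sub_mem_Img n x⟩
  set s := S hB δ
  have hsx : s • x - x = δ := S_spec hB hx
  have hs1 : s ≠ 1 := ne_one_of_sub hδ0 hsx
  have hMs : M V h k ≤ Fx s := hMg.trans (S_fix hB hx)
  by_contra hcon
  push Not at hcon
  have hsR : ¬ IsR V s := fun hR => hcon s ⟨hR, hMs⟩ (hsx ▸ sub_mem_Img s x)
  have hmem : ∀ {e n : H}, InN V h k n → (Fx e : AddSubgroup V) ≤ Fx n → s * e * s⁻¹ = e →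
      InN V h k (s * n * s⁻¹) ∧ (Fx e : AddSubgroup V) ≤ Fx (s * n * s⁻¹) := by
    intro e n hn hle hse
    have h1 : (Fx e : AddSubgroup V) ≤ Fx (s * n * s⁻¹) := fun w hw => by
      rw [← hse] at hw
      exact fx_conj.2 (hle (fx_conj.1 hw))
    refine ⟨⟨isR_conj hn.1 s, fun m hm => fx_conj.2 (hn.2 ?_)⟩, h1⟩
    rwa [inv_smul_eq_iff.2 (mem_Fx.1 (hMs hm)).symm]
  have hcomm : ∀ {e n : H}, InN V h k n → (Fx e : AddSubgroup V) ≤ Fx n → s * e * s⁻¹ = e →
      ¬ (Fx e : AddSubgroup V) ≤ M V h k → s * n = n * s := by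
    intro e n hn hle hse hne
    obtain ⟨w, hw, hwM⟩ := SetLike.not_le_iff_exists.1 hne
    have h1 := hmem hn hle hse
    by_contra hc
    exact h0 (C.inter hn h1.1 (fun e' => hc (by
      conv_rhs => rw [e']
      group)) (hle hw) (h1.2 hw) hwM).1
  have hunique : ∀ {e n : H}, InN V h k n → (Fx e : AddSubgroup V) ≤ Fx n →
      ¬ (Fx e : AddSubgroup V) ≤ M V h k → e ≠ 1 → M V h k ≤ Fx e →
      ∀ {e' : H}, e' ≠ 1 → (Fx e : AddSubgroup V) ≤ Fx e' →
      (Img n : AddSubgroup V) ≤ Fx e' → False := by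
    intro e n hn hle hne _ hMe e' he' hle' himg
    obtain ⟨n', hn', hle''⟩ := C.exists_over he' (hMe.trans hle')
    obtain ⟨w, hw, hwM⟩ := SetLike.not_le_iff_exists.1 hne
    obtain ⟨u, hu, hu0⟩ := exists_nonzero_img (V := V) hn.1.1
    rcases eq_or_ne n n' with rfl | hne'
    · exact hu0 (C.two_img h0 hn.1 hu (mem_Fx.1 (hle'' (himg hu))))
    · exact h0 (C.inter hn hn' hne' (hle hw) (hle'' (hle' hw)) hwM).1
  by_cases hsM : (Fx s : AddSubgroup V) ≤ M V h k
  · have hx0 : ¬ x ∈ M V h k := fun hm => hδ0 (by rw [← hsx, mem_Fx.1 (hMs hm), sub_self])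
    have hsq : s * s = 1 := by
      by_contra hsq
      have hMe : M V h k ≤ Fx (s * s) := fun m hm => fx_mul (hMs hm) (hMs hm)
      have hxe : x ∈ (Fx (s * s) : AddSubgroup V) := by
        rw [mem_Fx, mul_smul, smul_eq_add hsx, (S_neg hB hx).2]
      obtain ⟨n, hn, hle⟩ := C.exists_over hsq hMe
      have hne : ¬ (Fx (s * s) : AddSubgroup V) ≤ M V h k := fun hh => hx0 (hh hxe)
      have hc := hcomm hn hle (by group) hne
      refine hunique hn hle hne hsq hMe hsq le_rfl fun u hu => ?_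
      rw [mem_Fx, mul_smul]
      rcases C.dichotomy h0 hn.1 hc with h1 | h1
      · rw [h1 u hu, h1 u hu]
      · rw [h1 u hu, smul_neg, h1 u hu, neg_neg]
    have hsum : ∀ y : V, s • y + y ∈ M V h k := fun y => hsM (mem_Fx.2 (by
      rw [smul_add, ← mul_smul, hsq, one_smul, add_comm]))
    have hMe : M V h k ≤ Fx (h * s) := fun m hm => fx_mul hm.1 (hMs hm)
    have hUe : (Img h : AddSubgroup V) ≤ Fx (h * s) := fun u hu => mem_Fx.2 (C.eq_of_sub_mem_M hMe (by
      have h1 : (h * s) • u - u = h • (s • u + u) := by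
        rw [mul_smul, smul_add, neg_of_R hB C.hh hu]
        abel
      rw [h1, mem_Fx.1 (hsum u).1]
      exact hsum u))
    have hne1 : h * s ≠ 1 := fun e1 => hsR (by
      have : s = h := by rw [← inv_of_R hB C.hh]; exact eq_inv_of_mul_eq_one_right e1
      rw [this]; exact C.hh)
    obtain ⟨n, hn, hle⟩ := C.exists_over hne1 hMe
    have hFe : (Fx (h * s) : AddSubgroup V) = Fx n := by
      refine eq_of_le_of_card hle ?_
      rw [C.card_fx_inN hn, mul_comm, ← card_sup_of_disjoint (C.img_M C.inN_left)]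
      exact Nat.card_le_card_of_injective _ (AddSubgroup.inclusion_injective (sup_le hUe hMe))
    have heR : IsR V (h * s) := ⟨hne1, fun j hj hle' => (hn.1.2 j hj (hFe ▸ hle')).trans hFe.symm⟩
    have hkx : k • x = (h * s) • x := by
      rw [mul_smul, smul_eq_add hsx, ← smul_eq_add hx, mul_smul, ← mul_smul h h, sq_of_R hB C.hh,
        one_smul]
    rcases eq_or_ne (k • x - x) 0 with hk0 | hk0
    · refine hcon h C.inN_left ?_
      rw [← hx, mul_smul, sub_eq_zero.1 hk0]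
      exact sub_mem_Img h x
    · have := R_unique hB C.hk heR hk0 (sub_mem_Img k x) (hkx ▸ sub_mem_Img _ x)
      obtain ⟨u, hu, hu0⟩ := exists_nonzero_img (V := V) C.hh.1
      have hu' : u ∈ (Img h : AddSubgroup V) ⊓ Fx k := ⟨hu, this ▸ hUe hu⟩
      rw [C.img_fx, AddSubgroup.mem_bot] at hu'
      exact hu0 hu'
  · obtain ⟨n, hn, hle⟩ := C.exists_over hs1 hMs
    have hc := hcomm hn hle (by group) hsM
    rcases C.dichotomy h0 hn.1 hc with h1 | h1
    · exact hunique hn hle hsM hs1 hMs hs1 le_rfl fun u hu => mem_Fx.2 (h1 u hu)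
    · refine hunique hn hle hsM hs1 hMs (e' := n * s) (fun e1 => hsR ?_)
        (fun w hw => fx_mul (hle hw) hw) fun u hu => ?_
      · have : s = n := by rw [← inv_of_R hB hn.1]; exact eq_inv_of_mul_eq_one_right e1
        rw [this]; exact hn.1
      · rw [mem_Fx, mul_smul, h1 u hu, smul_neg, neg_of_R hB hn.1 hu, neg_neg]

end

end CfsgLib.BinaryAffine
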