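/-
Binary affine groups: members are determined by their fixed points, there are `Q + 1` of them and their
differences lie in `P`.
-/
import Cfsg.Agent.Lib.Perm.BinaryAffine.Cover

set_option autoImplicit false
set_option linter.unusedSectionVars false
set_option maxHeartbeats 800000

namespace CfsgLib.BinaryAffine

variable {H V : Type*} [Group H] [AddCommGroup V] [DistribMulAction H V]

theorem card_nz [Fintype V] [DecidableEq V] (U : AddSubgroup V) [DecidablePred (· ∈ U)] :
    (Finset.univ.filter fun x => x ∈ U ∧ x ≠ 0).card = Nat.card U - 1 := by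
  have : (Finset.univ.filter fun x => x ∈ U ∧ x ≠ 0) = (Finset.univ.filter fun x => x ∈ U).erase 0 := by
    ext x
    simp [and_comm]
  rw [this, Finset.card_erase_of_mem (by simp [U.zero_mem]), Nat.card_eq_fintype_card,
    Fintype.card_subtype]

variable [FaithfulSMul H V] [Finite V] [Finite H] {h k : H}

section

variable (C : Pair h k V)
include C

theorem Pair.two_le_card : 2 ≤ Nat.card (Img h : AddSubgroup V) := by
  obtain ⟨u, hu, hu0⟩ := exists_nonzero_img (V := V) C.hh.1
  have : Nontrivial (Img h : AddSubgroup V) := ⟨⟨⟨u, hu⟩, 0, fun e => hu0 (congrArg Subtype.val e)⟩⟩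
  exact Finite.one_lt_card

theorem Pair.card_meet {n : H} (hn : InN V h k n) :
    Nat.card ↥((Fx n : AddSubgroup V) ⊓ P V h k) = Nat.card (Img h : AddSubgroup V) := by
  have h1 : M V h k ⊔ ((Fx n : AddSubgroup V) ⊓ P V h k) = Fx n := by
    refine le_antisymm (sup_le hn.2 inf_le_left) fun x hx => ?_
    obtain ⟨m, hm, p, hp, rfl⟩ := C.decomp x
    have : p ∈ (Fx n : AddSubgroup V) := by simpa using AddSubgroup.sub_mem _ hx (hn.2 hm)
    exact AddSubgroup.mem_sup.2 ⟨m, hm, p, ⟨this, hp⟩, rfl⟩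
  have h2 : M V h k ⊓ ((Fx n : AddSubgroup V) ⊓ P V h k) = ⊥ := by
    rw [eq_bot_iff, ← C.M_P]
    exact inf_le_inf_left _ inf_le_right
  have h3 := C.card_fx_inN hn
  rw [← h1, card_sup_of_disjoint h2] at h3
  exact Nat.eq_of_mul_eq_mul_left Nat.card_pos h3

theorem Pair.not_M {x : V} (hx : x ∈ P V h k) (hx0 : x ≠ 0) : x ∉ M V h k := fun hm => hx0 (by
  have : x ∈ M V h k ⊓ P V h k := ⟨hm, hx⟩
  rwa [C.M_P, AddSubgroup.mem_bot] at this)

theorem Pair.smul_inN {e n : H} (he : M V h k ≤ Fx e) (hn : InN V h k n) :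
    InN V h k (e * n * e⁻¹) := by
  refine ⟨isR_conj hn.1 e, fun m hm => fx_conj.2 (hn.2 ?_)⟩
  rwa [inv_smul_eq_iff.2 (mem_Fx.1 (he hm)).symm]

theorem Pair.img_le_fx_two (h0 : ∀ y : V, y + y = 0) {n : H} (hn : InN V h k n) :
    (Img n : AddSubgroup V) ≤ Fx n := fun u hu => mem_Fx.2 (by
  rw [neg_of_R C.ba.bin hn.1 hu, neg_eq_iff_add_eq_zero, h0])

theorem Pair.exists_fix_two (h0 : ∀ y : V, y + y = 0) {x : V} (hx : x ∉ M V h k) :
    ∃ n, InN V h k n ∧ x ∈ (Fx n : AddSubgroup V) := by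
  obtain ⟨m, hm, p, hp, rfl⟩ := C.decomp x
  obtain ⟨n, hn, hnp⟩ := C.cover hp fun e => hx (by rwa [e, add_zero])
  exact ⟨n, hn, AddSubgroup.add_mem _ (hn.2 hm) (C.img_le_fx_two h0 hn hnp)⟩

/-- In characteristic two the stabiliser of a point outside `M` consists of members. -/
theorem Pair.stab_two (h0 : ∀ y : V, y + y = 0) {e : H} (he1 : e ≠ 1) (he : M V h k ≤ Fx e) {x : V}
    (hx : x ∉ M V h k) (hex : x ∈ (Fx e : AddSubgroup V)) : InN V h k e := by
  obtain ⟨n, hn, hle⟩ := C.exists_over he1 he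
  have hA : ∀ a ∈ (Fx n : AddSubgroup V), e • a ∈ (Fx n : AddSubgroup V) := by
    intro a ha
    have h1 : x ∈ (Fx (e * n * e⁻¹) : AddSubgroup V) := fx_conj.2 (by
      rw [inv_smul_eq_iff.2 (mem_Fx.1 hex).symm]
      exact hle hex)
    have h2 : e • a ∈ (Fx (e * n * e⁻¹) : AddSubgroup V) := fx_conj.2 (by rwa [inv_smul_smul])
    rcases eq_or_ne n (e * n * e⁻¹) with hne | hne
    · rwa [← hne] at h2
    · rwa [← (C.inter hn (C.smul_inN he hn) hne (hle hex) h1 hx).2] at h2
  have hge : (Fx n : AddSubgroup V) ≤ Fx e := fun a ha => by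
    rw [mem_Fx]
    by_contra hne
    have hd : e • a - a ∉ M V h k := fun hm => hne (C.eq_of_sub_mem_M he hm)
    obtain ⟨n', hn', hn'a⟩ := C.cover_two h0 he hd
    have h1 : e • a - a ∈ (Fx n' : AddSubgroup V) :=
      C.img_le_fx_two h0 hn' (hn'a ▸ sub_mem_Img n' a)
    have h2 : a ∈ (Fx n' : AddSubgroup V) := by
      rcases eq_or_ne n n' with e' | hne'
      · rwa [← e']
      · rwa [← (C.inter hn hn' hne' (AddSubgroup.sub_mem _ (hA a ha) ha) h1 hd).2]
    rw [mem_Fx.1 h2, sub_self] at hn'a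
    exact hne (sub_eq_zero.1 hn'a.symm)
  exact ⟨⟨he1, fun j hj hle' => le_antisymm
    ((hn.1.2 j hj (hge.trans hle')).le.trans hge) hle'⟩, he⟩

open Classical in
/-- In characteristic two, the number of members with given fixed points is one. -/
theorem Pair.class_two (h0 : ∀ y : V, y + y = 0) {n n' : H} (hn : InN V h k n) (hn' : InN V h k n')
    (heq : (Fx n : AddSubgroup V) = Fx n') : n = n' := by
  have := Fintype.ofFinite V
  have := Fintype.ofFinite H
  let L : Subgroup H :=
    { carrier := {e | M V h k ≤ Fx e}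
      one_mem' := by rw [Set.mem_setOf_eq, fx_one]; exact le_top
      mul_mem' := fun ha hb m hm => fx_mul (ha hm) (hb hm)
      inv_mem' := fun ha m hm => fx_inv (ha hm) }
  let N : Finset H := Finset.univ.filter fun e => InN V h k e
  let F : V → Finset H := fun x => N.filter fun e => x ∈ (Fx e : AddSubgroup V)
  let O : V → Finset V := fun x => Finset.univ.filter fun y => ∃ e ∈ L, e • x = y
  have hNmem : ∀ e, e ∈ N ↔ InN V h k e := fun e => by simp [N]
  have hFmem : ∀ x e, e ∈ F x ↔ InN V h k e ∧ x ∈ (Fx e : AddSubgroup V) := fun x e => by simp [F, N]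
  have horb : ∀ x, x ∉ M V h k → (O x).card = N.card - (F x).card + 1 := by
    intro x hx
    have himg : (O x).erase x = (N \ F x).image (fun e => e • x) := by
      ext y
      simp only [O, Finset.mem_erase, Finset.mem_filter, Finset.mem_univ, true_and, Finset.mem_image,
        Finset.mem_sdiff, hNmem, hFmem, not_and]
      constructor
      · rintro ⟨hy, e, he, rfl⟩
        obtain ⟨j, hj, hje⟩ := C.cover_two h0 he fun hm => hy (C.eq_of_sub_mem_M he hm)
        have hjx : j • x = e • x := sub_left_inj.1 hje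
        exact ⟨j, ⟨hj, fun _ hf => hy (hjx.symm.trans (mem_Fx.1 hf))⟩, hjx⟩
      · rintro ⟨e, ⟨he, hne⟩, rfl⟩
        exact ⟨fun e0 => hne he (mem_Fx.2 e0), e, he.2, rfl⟩
    have hmemx : x ∈ O x := by
      simp only [O, Finset.mem_filter, Finset.mem_univ, true_and]
      exact ⟨1, L.one_mem, one_smul _ _⟩
    rw [← Finset.card_erase_add_one hmemx, himg, Finset.card_image_of_injOn, Finset.card_sdiff_of_subset]
    · exact Finset.filter_subset _ _
    · intro a ha b hb e
      simp only [Finset.coe_sdiff, Set.mem_diff, Finset.mem_coe, hNmem, hFmem, not_and] at ha hb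
      refine R_unique C.ba.bin ha.1.1 hb.1.1 ?_ (sub_mem_Img a x)
        (show a • x - x ∈ (Img b : AddSubgroup V) by rw [show a • x = b • x from e]; exact sub_mem_Img b x)
      exact sub_ne_zero.2 fun e0 => ha.2 ha.1 (mem_Fx.2 e0)
  have hL : ∀ x, x ∉ M V h k →
      Nat.card L = ((F x).card + 1) * (N.card - (F x).card + 1) := by
    intro x hx
    have h1 := MulAction.card_orbit_mul_card_stabilizer_eq_card_group L x
    have e1 : Fintype.card (MulAction.orbit L x) = (O x).card := by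
      rw [← Set.toFinset_card]
      congr 1
      ext y
      simp only [Set.mem_toFinset, MulAction.mem_orbit_iff, O, Finset.mem_filter, Finset.mem_univ, true_and]
      exact ⟨fun ⟨e, he⟩ => ⟨e.1, e.2, he⟩, fun ⟨e, he, hey⟩ => ⟨⟨e, he⟩, hey⟩⟩
    have e2 : Fintype.card (MulAction.stabilizer L x) = (F x).card + 1 := by
      rw [← Finset.card_insert_of_notMem (a := (1 : H)) (s := F x)
        (by simp only [hFmem]; exact fun hf => hf.1.1.1 rfl), ← Fintype.card_coe]
      refine Fintype.card_congr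
        { toFun := fun e => ⟨e.1.1, ?_⟩
          invFun := fun e => ⟨⟨e.1, ?_⟩, ?_⟩
          left_inv := fun e => rfl
          right_inv := fun e => rfl }
      · rw [Finset.mem_insert, hFmem]
        rcases eq_or_ne (e.1.1) 1 with h1 | h1
        · exact Or.inl h1
        · have hex : x ∈ (Fx e.1.1 : AddSubgroup V) := mem_Fx.2 e.2
          exact Or.inr ⟨C.stab_two h0 h1 e.1.2 hx hex, hex⟩
      · rcases Finset.mem_insert.1 e.2 with h1 | h1
        · rw [h1]; exact L.one_mem
        · exact ((hFmem _ _).1 h1).1.2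
      · rcases Finset.mem_insert.1 e.2 with h1 | h1
        · show (e.1 : H) • x = x
          rw [h1, one_smul]
        · exact mem_Fx.1 ((hFmem _ _).1 h1).2
    rw [e1, e2, horb x hx, ← Nat.card_eq_fintype_card] at h1
    rw [← h1, mul_comm]
  have hpos : ∀ x, x ∉ M V h k → 1 ≤ (F x).card := fun x hx => by
    obtain ⟨e, he, hxe⟩ := C.exists_fix_two h0 hx
    exact Finset.card_pos.2 ⟨e, (hFmem _ _).2 ⟨he, hxe⟩⟩
  have hdisj : ∀ x y, x ∉ M V h k → y ∈ P V h k → (∀ a ∈ F x, y ∉ (Fx a : AddSubgroup V)) →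
      Disjoint (F x) (F y) := fun x y _ _ hh => Finset.disjoint_left.2 fun a ha hb =>
    hh a ha ((hFmem _ _).1 hb).2
  have hsame : ∀ {a b : H}, InN V h k a → InN V h k b → ∀ {x : V}, x ∉ M V h k →
      x ∈ (Fx a : AddSubgroup V) → x ∈ (Fx b : AddSubgroup V) → (Fx a : AddSubgroup V) = Fx b :=
    fun {a b} ha hb {x} hx hxa hxb => by
      rcases eq_or_ne a b with e | hne
      · rw [e]
      · exact (C.inter ha hb hne hxa hxb hx).2
  have hFeq : ∀ x a, x ∉ M V h k → InN V h k a → x ∈ (Fx a : AddSubgroup V) →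
      ∀ y, y ∉ M V h k → y ∈ (Fx a : AddSubgroup V) → F x = F y := fun x a hx ha hxa y hy hya => by
    ext b
    simp only [hFmem]
    exact ⟨fun ⟨hb, hxb⟩ => ⟨hb, hsame ha hb hx hxa hxb ▸ hya⟩,
      fun ⟨hb, hyb⟩ => ⟨hb, hsame ha hb hy hya hyb ▸ hxa⟩⟩
  obtain ⟨u, hu, hu0⟩ := exists_nonzero_img (V := V) C.hh.1
  have huM := C.not_M (AddSubgroup.mem_sup_left hu) hu0
  have hconst : ∀ x, x ∈ P V h k → x ≠ 0 → (F x).card = (F u).card := by
    intro x hxP hx0
    have hxM := C.not_M hxP hx0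
    obtain ⟨a, ha, hxa⟩ := C.exists_fix_two h0 hxM
    obtain ⟨b, hb, hub⟩ := C.exists_fix_two h0 huM
    by_cases hua : u ∈ (Fx a : AddSubgroup V)
    · rw [hFeq x a hxM ha hxa u huM hua]
    have hxb : x ∉ (Fx b : AddSubgroup V) := fun hh => hua (hsame ha hb hxM hxa hh ▸ hub)
    have hzP : x + u ∈ P V h k := AddSubgroup.add_mem _ hxP (AddSubgroup.mem_sup_left hu)
    have hz0 : x + u ≠ 0 := fun e => hua (by
      rw [show u = -x from (neg_eq_of_add_eq_zero_right e).symm]
      exact AddSubgroup.neg_mem _ hxa)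
    have hzM := C.not_M hzP hz0
    obtain ⟨c, hc, hzc⟩ := C.exists_fix_two h0 hzM
    have d1 := hdisj x u hxM (AddSubgroup.mem_sup_left hu) fun e he hue => hua (by
      rw [hsame ha ((hFmem _ _).1 he).1 hxM hxa ((hFmem _ _).1 he).2]
      exact hue)
    have d2 : Disjoint (F x ∪ F u) (F (x + u)) := Finset.disjoint_left.2 fun e he hez => by
      have hze := ((hFmem _ _).1 hez).2
      rcases Finset.mem_union.1 he with he' | he'
      · have := AddSubgroup.sub_mem _ hze ((hFmem _ _).1 he').2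
        rw [add_sub_cancel_left] at this
        exact hua (hsame ha ((hFmem _ _).1 he').1 hxM hxa ((hFmem _ _).1 he').2 ▸ this)
      · have := AddSubgroup.sub_mem _ hze ((hFmem _ _).1 he').2
        rw [add_sub_cancel_right] at this
        exact hxb (hsame hb ((hFmem _ _).1 he').1 huM hub ((hFmem _ _).1 he').2 ▸ this)
    have hT : (F x).card + (F u).card + (F (x + u)).card ≤ N.card := by
      rw [← Finset.card_union_of_disjoint d1, ← Finset.card_union_of_disjoint d2]
      exact Finset.card_le_card (Finset.union_subset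
        (Finset.union_subset (Finset.filter_subset _ _) (Finset.filter_subset _ _)) (Finset.filter_subset _ _))
    have h1 := (hL x hxM).symm.trans (hL u huM)
    have := hpos _ hzM
    zify [show (F x).card ≤ N.card by omega, show (F u).card ≤ N.card by omega] at h1
    by_contra hne
    have h2 : ((F x).card : ℤ) - (F u).card ≠ 0 := sub_ne_zero.2 (by exact_mod_cast hne)
    have h3 : (((F x).card : ℤ) - (F u).card) * ((N.card : ℤ) - (F x).card - (F u).card) = 0 := by
      linear_combination h1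
    have := (mul_eq_zero.1 h3).resolve_left h2
    omega
  set κ := (F u).card with hκ
  set Q := Nat.card (Img h : AddSubgroup V) with hQ
  let cls : Finset (AddSubgroup V) := N.image fun e => (Fx e : AddSubgroup V)
  have hclsmem : ∀ A, A ∈ cls ↔ ∃ e, InN V h k e ∧ (Fx e : AddSubgroup V) = A := fun A => by
    simp [cls, hNmem]
  let P' : Finset V := Finset.univ.filter fun x => x ∈ P V h k ∧ x ≠ 0
  have hP'card : P'.card = Q * Q - 1 := by
    rw [show P' = Finset.univ.filter fun x => x ∈ P V h k ∧ x ≠ 0 from rfl, card_nz, C.card_P]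
  have hunion : P' = cls.biUnion fun A => Finset.univ.filter fun x => x ∈ A ⊓ P V h k ∧ x ≠ 0 := by
    ext x
    simp only [P', Finset.mem_filter, Finset.mem_univ, true_and, Finset.mem_biUnion, hclsmem,
      AddSubgroup.mem_inf]
    constructor
    · rintro ⟨hxP, hx0⟩
      obtain ⟨a, ha, hxa⟩ := C.exists_fix_two h0 (C.not_M hxP hx0)
      exact ⟨_, ⟨a, ha, rfl⟩, ⟨hxa, hxP⟩, hx0⟩
    · rintro ⟨A, -, ⟨-, hxP⟩, hx0⟩
      exact ⟨hxP, hx0⟩
  have hcls : cls.card * (Q - 1) = Q * Q - 1 := by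
    rw [← hP'card, hunion, Finset.card_biUnion, Finset.sum_const_nat]
    · intro A hA
      obtain ⟨a, ha, rfl⟩ := (hclsmem A).1 hA
      rw [card_nz, C.card_meet ha]
    · intro A hA B hB hAB
      obtain ⟨a, ha, rfl⟩ := (hclsmem A).1 hA
      obtain ⟨b, hb, rfl⟩ := (hclsmem B).1 hB
      refine Finset.disjoint_left.2 fun x hxa hxb => ?_
      simp only [Finset.mem_filter, Finset.mem_univ, true_and, AddSubgroup.mem_inf] at hxa hxb
      exact hAB (hsame ha hb (C.not_M hxa.1.2 hxa.2) hxa.1.1 hxb.1.1)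
  have hrep : ∀ a, InN V h k a → ∃ x, x ∈ P V h k ∧ x ≠ 0 ∧ x ∈ (Fx a : AddSubgroup V) := fun a ha => by
    have h1 := C.card_meet ha
    have h2 := C.two_le_card
    have : Nontrivial ↥((Fx a : AddSubgroup V) ⊓ P V h k) := Finite.one_lt_card_iff_nontrivial.1 (by omega)
    obtain ⟨⟨x, hxa, hxP⟩, hx0⟩ := exists_ne (0 : ↥((Fx a : AddSubgroup V) ⊓ P V h k))
    exact ⟨x, hxP, fun e => hx0 (Subtype.ext e), hxa⟩
  have hfib : ∀ A ∈ cls, (N.filter fun e => (Fx e : AddSubgroup V) = A).card = κ := fun A hA => by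
    obtain ⟨a, ha, rfl⟩ := (hclsmem A).1 hA
    obtain ⟨x, hxP, hx0, hxa⟩ := hrep a ha
    rw [← hconst x hxP hx0]
    congr 1
    ext e
    simp only [Finset.mem_filter, hNmem, hFmem]
    exact ⟨fun ⟨he, hf⟩ => ⟨he, hf ▸ hxa⟩, fun ⟨he, hxe⟩ => ⟨he, (hsame ha he (C.not_M hxP hx0) hxa hxe).symm⟩⟩
  have hN : N.card = cls.card * κ := by
    rw [Finset.card_eq_sum_card_fiberwise (f := fun e => (Fx e : AddSubgroup V)) (t := cls)
      (fun e he => Finset.mem_image_of_mem _ he), Finset.sum_const_nat hfib]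
  have hQ2 := C.two_le_card
  rw [← hQ] at hQ2
  have hc : cls.card = Q + 1 := by
    have e : Q * Q - 1 = (Q + 1) * (Q - 1) := by
      simpa using Nat.mul_self_sub_mul_self_eq Q 1
    exact Nat.eq_of_mul_eq_mul_right (show 0 < Q - 1 by omega) (hcls.trans e)
  have horbit : ∀ x, x ∉ M V h k → (O x).card = Q * κ + 1 := by
    intro x hx
    obtain ⟨m, hm, p, hp, rfl⟩ := C.decomp x
    have hp0 : p ≠ 0 := fun e => hx (by rwa [e, add_zero])
    obtain ⟨a, ha, hpa⟩ := C.exists_fix_two h0 (C.not_M hp hp0)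
    rw [horb _ hx, hFeq (m + p) a hx ha (AddSubgroup.add_mem _ (ha.2 hm) hpa) p (C.not_M hp hp0) hpa,
      hconst p hp hp0, hN, hc, add_mul, one_mul, add_tsub_cancel_right]
  let X : Finset V := Finset.univ.filter fun x => x ∉ M V h k
  have hdvd : (Q * κ + 1) ∣ X.card := by
    rw [Finset.card_eq_sum_card_fiberwise (f := O) (t := X.image O) (fun x hx => Finset.mem_image_of_mem _ hx)]
    refine Finset.dvd_sum fun S hS => ?_
    obtain ⟨x, hx, rfl⟩ := Finset.mem_image.1 hS
    have hxM : x ∉ M V h k := (Finset.mem_filter.1 hx).2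
    rw [show (X.filter fun y => O y = O x) = O x from ?_, horbit x hxM]
    ext y
    simp only [X, Finset.mem_filter, Finset.mem_univ, true_and]
    constructor
    · rintro ⟨-, hy⟩
      rw [← hy]
      simp only [O, Finset.mem_filter, Finset.mem_univ, true_and]
      exact ⟨1, L.one_mem, one_smul _ _⟩
    · intro hy
      simp only [O, Finset.mem_filter, Finset.mem_univ, true_and] at hy
      obtain ⟨e, he, rfl⟩ := hy
      refine ⟨fun hm => hxM ?_, ?_⟩
      · have := mem_Fx.1 (fx_inv (he hm))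
        rw [inv_smul_smul] at this
        rwa [this]
      · ext y
        simp only [O, Finset.mem_filter, Finset.mem_univ, true_and, ← mul_smul]
        exact ⟨fun ⟨f, hf, hy⟩ => ⟨f * e, L.mul_mem hf he, hy⟩,
          fun ⟨f, hf, hy⟩ => ⟨f * e⁻¹, L.mul_mem hf (L.inv_mem he), by rw [inv_mul_cancel_right]; exact hy⟩⟩
  have hX : X.card + Nat.card (M V h k) = Nat.card (M V h k) * (Q * Q) := by
    rw [show Nat.card (M V h k) * (Q * Q) = Nat.card V by rw [← C.card_P, C.card_M],
      Nat.card_eq_fintype_card, Nat.card_eq_fintype_card, Fintype.card_subtype, add_comm]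
    exact Finset.card_filter_add_card_filter_not (s := Finset.univ) _
  have hX' : X.card = Nat.card (M V h k) * (Q * Q - 1) := by
    rw [Nat.mul_sub, mul_one]
    omega
  have hQeven : 2 ∣ Q := by
    have h1 : addOrderOf (⟨u, hu⟩ : (Img h : AddSubgroup V)) = 2 := by
      refine addOrderOf_eq_prime (Subtype.ext ?_) (fun e => hu0 (congrArg Subtype.val e))
      rw [two_nsmul]
      exact h0 u
    rw [hQ, ← h1]
    exact addOrderOf_dvd_natCard _
  have hcop : Nat.Coprime (Q * κ + 1) (Nat.card (M V h k)) := by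
    refine Nat.coprime_of_dvd fun q hq h1 h2 => ?_
    have := Fact.mk hq
    obtain ⟨y, hy⟩ := exists_prime_addOrderOf_dvd_card' q h2
    have : q ∣ 2 := hy ▸ addOrderOf_dvd_of_nsmul_eq_zero (Subtype.ext (by rw [two_nsmul]; exact h0 y))
    obtain rfl := (Nat.prime_dvd_prime_iff_eq hq Nat.prime_two).1 this
    exact absurd ((Nat.dvd_add_right (Dvd.dvd.mul_right hQeven κ)).1 h1) (by norm_num)
  have hO : (Q * κ + 1) ∣ Q * Q - 1 := hcop.dvd_of_dvd_mul_left (hX' ▸ hdvd)
  have hκ1 : κ = 1 := by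
    obtain ⟨j, hj⟩ := hO
    have hκ0 : 1 ≤ κ := hpos u huM
    by_contra hne
    have h1 : Q * Q = Q * (κ * j) + (j + 1) := by
      have : 1 ≤ Q * Q := Nat.one_le_iff_ne_zero.2 (Nat.mul_pos (by omega) (by omega)).ne'
      rw [show Q * Q = (Q * Q - 1) + 1 by omega, hj]
      ring
    have h2 : Q ∣ j + 1 := (Nat.dvd_add_right (dvd_mul_right Q (κ * j))).1 (h1 ▸ dvd_mul_right Q Q)
    have h3 := Nat.le_of_dvd (by omega) h2
    have h4 : 2 ≤ κ := by omega
    have h5 : Q * (2 * j) ≤ Q * (κ * j) := Nat.mul_le_mul_left _ (Nat.mul_le_mul_right _ h4)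
    have h6 : Q * (Q - 1) ≤ Q * j := Nat.mul_le_mul_left _ (by omega)
    have h7 : Q * (Q - 1) + Q = Q * Q := by
      rw [← Nat.mul_succ, Nat.succ_eq_add_one, Nat.sub_add_cancel (by omega)]
    have h8 : Q * (2 * j) = Q * j + Q * j := by ring
    have h9 : 2 * Q ≤ Q * Q := Nat.mul_le_mul_right _ hQ2
    omega
  have h1 := hfib _ ((hclsmem _).2 ⟨n', hn', rfl⟩)
  rw [hκ1] at h1
  obtain ⟨c, hc1⟩ := Finset.card_eq_one.1 h1
  have e1 : n = c := Finset.mem_singleton.1 (hc1 ▸ Finset.mem_filter.2 ⟨(hNmem n).2 hn, heq⟩)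
  have e2 : n' = c := Finset.mem_singleton.1 (hc1 ▸ Finset.mem_filter.2 ⟨(hNmem n').2 hn', rfl⟩)
  rw [e1, e2]

theorem Pair.fix_unique {n n' : H} (hn : InN V h k n) (hn' : InN V h k n') {x : V}
    (hxM : x ∉ M V h k) (hx : x ∈ (Fx n : AddSubgroup V)) (hx' : x ∈ (Fx n' : AddSubgroup V)) :
    n = n' := by
  by_contra hne
  obtain ⟨h0, heq⟩ := C.inter hn hn' hne hx hx' hxM
  exact hne (C.class_two h0 hn hn' heq)

open Classical in
/-- The members: their number, where their differences lie, and the points they fix. -/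
theorem Pair.members [Fintype H] :
    (∀ n, InN V h k n → (Img n : AddSubgroup V) ≤ P V h k) ∧
      (∀ x : V, x ∉ M V h k → ∃ n, InN V h k n ∧ x ∈ (Fx n : AddSubgroup V)) ∧
      (Finset.univ.filter fun n => InN V h k n).card = Nat.card (Img h : AddSubgroup V) + 1 := by
  have := Fintype.ofFinite V
  set N := Finset.univ.filter fun n => InN V h k n with hNdef
  set Q := Nat.card (Img h : AddSubgroup V) with hQ
  have hQ2 : 2 ≤ Q := C.two_le_card
  have hNmem : ∀ e, e ∈ N ↔ InN V h k e := fun e => by simp [hNdef]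
  set P' := Finset.univ.filter fun x => x ∈ P V h k ∧ x ≠ 0 with hP'
  have hP'card : P'.card = Q * Q - 1 := by rw [hP', card_nz, C.card_P]
  have hsq : Q * Q - 1 = (Q + 1) * (Q - 1) := by simpa using Nat.mul_self_sub_mul_self_eq Q 1
  let A : H → Finset V := fun n => Finset.univ.filter fun x => x ∈ (Fx n : AddSubgroup V) ⊓ P V h k ∧ x ≠ 0
  let B : H → Finset V := fun n => Finset.univ.filter fun x => x ∈ (Img n : AddSubgroup V) ⊓ P V h k ∧ x ≠ 0
  have hAcard : ∀ n ∈ N, (A n).card = Q - 1 := fun n hn => by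
    simp only [A]; rw [card_nz, C.card_meet ((hNmem n).1 hn)]
  have hBle : ∀ n ∈ N, (B n).card ≤ Q - 1 := fun n hn => by
    simp only [B]; rw [card_nz]
    refine Nat.sub_le_sub_right ?_ 1
    rw [hQ, ← C.card_img_inN ((hNmem n).1 hn)]
    exact Nat.card_le_card_of_injective _ (AddSubgroup.inclusion_injective inf_le_left)
  have hAd : (N : Set H).PairwiseDisjoint A := by
    intro a ha b hb hab
    refine Finset.disjoint_left.2 fun x hxa hxb => hab ?_
    simp only [A, Finset.mem_filter, Finset.mem_univ, true_and, AddSubgroup.mem_inf] at hxa hxb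
    exact C.fix_unique ((hNmem a).1 ha) ((hNmem b).1 hb) (C.not_M hxa.1.2 hxa.2) hxa.1.1 hxb.1.1
  have hAsub : N.biUnion A ⊆ P' := by
    intro x hx
    simp only [A, Finset.mem_biUnion, Finset.mem_filter, Finset.mem_univ, true_and,
      AddSubgroup.mem_inf] at hx
    obtain ⟨-, -, ⟨-, hxP⟩, hx0⟩ := hx
    simp [hP', hxP, hx0]
  have hBsup : P' ⊆ N.biUnion B := by
    intro x hx
    simp only [hP', Finset.mem_filter, Finset.mem_univ, true_and] at hx
    obtain ⟨n, hn, hxn⟩ := C.cover hx.1 hx.2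
    simp only [B, Finset.mem_biUnion, Finset.mem_filter, Finset.mem_univ, true_and, AddSubgroup.mem_inf]
    exact ⟨n, (hNmem n).2 hn, ⟨hxn, hx.1⟩, hx.2⟩
  have h1 : N.card * (Q - 1) ≤ Q * Q - 1 := by
    rw [← hP'card, ← Finset.sum_const_nat hAcard, ← Finset.card_biUnion hAd]
    exact Finset.card_le_card hAsub
  have h2 : Q * Q - 1 ≤ ∑ n ∈ N, (B n).card := by
    rw [← hP'card]
    exact (Finset.card_le_card hBsup).trans Finset.card_biUnion_le
  have h3 : ∑ n ∈ N, (B n).card ≤ N.card * (Q - 1) := by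
    rw [← smul_eq_mul]
    exact Finset.sum_le_card_nsmul N _ _ hBle
  have hN : N.card = Q + 1 :=
    Nat.eq_of_mul_eq_mul_right (show 0 < Q - 1 by omega) (by omega)
  have hBeq : ∀ n ∈ N, (B n).card = Q - 1 := by
    intro n hn
    refine le_antisymm (hBle n hn) (not_lt.1 fun hlt => ?_)
    have := Finset.sum_lt_sum hBle ⟨n, hn, hlt⟩
    rw [Finset.sum_const, smul_eq_mul] at this
    omega
  refine ⟨fun n hn => ?_, fun x hx => ?_, hN⟩
  · have h4 := hBeq n ((hNmem n).2 hn)
    simp only [B] at h4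
    rw [card_nz] at h4
    have h5 : (Img n : AddSubgroup V) ⊓ P V h k = Img n :=
      eq_of_le_of_card inf_le_left (by
        rw [C.card_img_inN hn, ← hQ]
        have : 0 < Nat.card ↥((Img n : AddSubgroup V) ⊓ P V h k) := Nat.card_pos
        omega)
    exact inf_eq_left.1 h5
  · obtain ⟨m, hm, p, hp, rfl⟩ := C.decomp x
    have hp0 : p ≠ 0 := fun e => hx (by rwa [e, add_zero])
    have heq : N.biUnion A = P' := Finset.eq_of_subset_of_card_le hAsub (by
      rw [Finset.card_biUnion hAd, Finset.sum_const_nat hAcard, hP'card, hN]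
      omega)
    have : p ∈ P' := by simp [hP', hp, hp0]
    rw [← heq] at this
    simp only [A, Finset.mem_biUnion, Finset.mem_filter, Finset.mem_univ, true_and, hNmem,
      AddSubgroup.mem_inf] at this
    obtain ⟨n, hn, ⟨hpn, -⟩, -⟩ := this
    exact ⟨n, hn, AddSubgroup.add_mem _ (hn.2 hm) hpn⟩

end

end CfsgLib.BinaryAffine
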