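/-
Binary affine groups: maximal elements with differences outside `P` commute with all members. In odd
characteristic this rests on there being no polarity without absolute points of a projective plane.
-/
import Cfsg.Agent.Lib.Perm.BinaryAffine.Count

set_option autoImplicit false
set_option linter.unusedSectionVars false
set_option maxHeartbeats 800000

namespace CfsgLib.BinaryAffine

variable {H V : Type*} [Group H] [AddCommGroup V] [DistribMulAction H V]

variable [Finite V] {h k : H}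

theorem card_le_meet_mul (l : H) (U : AddSubgroup V) :
    Nat.card U ≤ Nat.card ↥((Fx l : AddSubgroup V) ⊓ U) * Nat.card (Img l : AddSubgroup V) := by
  let f : U →+ V := (D l).comp U.subtype
  have h1 := AddSubgroup.card_eq_card_quotient_mul_card_addSubgroup f.ker
  rw [Nat.card_congr (QuotientAddGroup.quotientKerEquivRange f).toEquiv] at h1
  have h2 : Nat.card f.ker ≤ Nat.card ↥((Fx l : AddSubgroup V) ⊓ U) :=
    Nat.card_le_card_of_injective (fun x => ⟨(x.1 : V), x.2, x.1.2⟩) fun a b e =>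
      Subtype.ext (Subtype.ext (Subtype.ext_iff.1 e :))
  have h3 : Nat.card f.range ≤ Nat.card (Img l : AddSubgroup V) :=
    Nat.card_le_card_of_injective (fun x => ⟨x.1, by
      obtain ⟨y, hy⟩ := x.2
      exact ⟨(y : V), hy⟩⟩) fun a b e => Subtype.ext (Subtype.ext_iff.1 e :)
  rw [h1, mul_comm]
  exact Nat.mul_le_mul h2 h3

open Classical in
/-- There is no polarity without absolute points in a projective plane of order `Q`. -/
theorem no_polarity {α : Type*} [Fintype α] {Q : ℕ} (p : ℕ) (hp : p.Prime) (hp3 : 3 ≤ p) (hpQ : p ∣ Q)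
    (hQ : 1 ≤ Q) (r : α → α → Prop) (hsym : ∀ i j, r i j → r j i) (hirr : ∀ i, ¬ r i i)
    (hdeg : ∀ i, (Finset.univ.filter fun j => r i j).card = Q + 1)
    (htwo : ∀ i j, i ≠ j → (Finset.univ.filter fun x => r i x ∧ r j x).card = 1)
    (hcard : Fintype.card α * (Q - 1) = Q * Q * Q - 1) : False := by
  have := Fact.mk hp
  have hQ0 : (Q : ZMod p) = 0 := (ZMod.natCast_eq_zero_iff Q p).2 hpQ
  let A : Matrix α α (ZMod p) := fun i j => if r i j then 1 else 0
  let J : Matrix α α (ZMod p) := fun _ _ => 1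
  have hA2 : A * A = J := by
    ext i j
    show ∑ x, A i x * A x j = 1
    have e : ∀ x, A i x * A x j = if r i x ∧ r j x then (1 : ZMod p) else 0 := fun x => by
      simp only [A]
      rw [show r x j ↔ r j x from ⟨hsym x j, hsym j x⟩]
      split_ifs <;> simp_all
    rw [Finset.sum_congr rfl fun x _ => e x, Finset.sum_boole]
    rcases eq_or_ne i j with rfl | hij
    · simp only [and_self]
      rw [hdeg, Nat.cast_succ, hQ0, zero_add]
    · rw [htwo i j hij, Nat.cast_one]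
  have hAJ : A * J = J := by
    ext i j
    show ∑ x, A i x * 1 = 1
    simp only [mul_one, A]
    rw [Finset.sum_boole, hdeg, Nat.cast_succ, hQ0, zero_add]
  have hpow : ∀ n, A ^ (n + 2) = J := fun n => by
    induction n with
    | zero => rw [zero_add, pow_two, hA2]
    | succ n ih => rw [pow_succ', ih, hAJ]
  have htr := ZMod.trace_pow_card A
  obtain ⟨n, hn⟩ : ∃ n, p = n + 2 := ⟨p - 2, by omega⟩
  have hA0 : Matrix.trace A = 0 := Finset.sum_eq_zero fun i _ => by
    simp only [Matrix.diag, A]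
    rw [if_neg (hirr i)]
  have hJtr : Matrix.trace J = (Fintype.card α : ZMod p) := by
    simp [Matrix.trace, Matrix.diag, J]
  have hz : (Fintype.card α : ZMod p) = 0 := by
    rw [← hJtr, ← hpow n, ← hn, htr, hA0, zero_pow hp.ne_zero]
  have h6 : ((Fintype.card α * (Q - 1) : ℕ) : ZMod p) = ((Q * Q * Q - 1 : ℕ) : ZMod p) := by rw [hcard]
  have hQ3 : 1 ≤ Q * Q * Q :=
    Nat.one_le_iff_ne_zero.2 (Nat.mul_pos (Nat.mul_pos (by omega) (by omega)) (by omega)).ne'
  rw [Nat.cast_mul, Nat.cast_sub hQ, Nat.cast_sub hQ3] at h6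
  simp [hz, hQ0] at h6

variable [FaithfulSMul H V] [Finite H]

section

variable (C : Pair h k V)
include C

theorem Pair.P_le_sup {n n' : H} (hn : InN V h k n) (hn' : InN V h k n') (hne : n ≠ n') :
    P V h k ≤ (Img n : AddSubgroup V) ⊔ Img n' := by
  have := Fintype.ofFinite H
  refine (eq_of_le_of_card (sup_le (C.members.1 n hn) (C.members.1 n' hn')) ?_).ge
  have hd : (Img n : AddSubgroup V) ⊓ Img n' = ⊥ := by
    rw [AddSubgroup.eq_bot_iff_forall]
    rintro u ⟨hu, hu'⟩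
    by_contra hu0
    exact hne (R_unique C.ba.bin hn.1 hn'.1 hu0 hu hu')
  rw [card_sup_of_disjoint hd, C.card_img_inN hn, C.card_img_inN hn', C.card_P]

/-- A maximal element outside `P` not commuting with some member commutes with exactly one. -/
theorem Pair.partner {l n₀ : H} (hl : IsR V l) (hP : ¬ (Img l : AddSubgroup V) ≤ P V h k)
    (hn₀ : InN V h k n₀) (hnc : l * n₀ ≠ n₀ * l) :
    Nat.card (Img l : AddSubgroup V) = Nat.card (Img h : AddSubgroup V) ∧
      (Img l : AddSubgroup V) ⊓ P V h k = ⊥ ∧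
      ∃ c, InN V h k c ∧ l * c = c * l ∧ ∀ n, InN V h k n → l * n = n * l → n = c := by
  have := Fintype.ofFinite H
  have hB := C.ba.bin
  have D : Pair n₀ l V := ⟨C.ba, hn₀.1, hl, hnc⟩
  have hQ : Nat.card (Img l : AddSubgroup V) = Nat.card (Img h : AddSubgroup V) :=
    D.card_img.trans (C.card_img_inN hn₀)
  have hmemP : ∀ n, InN V h k n → l ≠ n := fun n hn e => hP (e ▸ C.members.1 n hn)
  refine ⟨hQ, ?_, ?_⟩
  · rw [AddSubgroup.eq_bot_iff_forall]
    rintro u ⟨hu, huP⟩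
    by_contra hu0
    obtain ⟨n, hn, hun⟩ := C.cover huP hu0
    exact hmemP n hn (R_unique hB hl hn.1 hu0 hu hun)
  have h1 := card_le_meet_mul (V := V) l (P V h k)
  rw [hQ, C.card_P] at h1
  have h2 : Nat.card (Img h : AddSubgroup V) ≤ Nat.card ↥((Fx l : AddSubgroup V) ⊓ P V h k) :=
    Nat.le_of_mul_le_mul_right h1 Nat.card_pos
  have h3 : Nat.card ↥((Fx l : AddSubgroup V) ⊓ P V h k) ≤ Nat.card (Img h : AddSubgroup V) := by
    have hd : ((Fx l : AddSubgroup V) ⊓ P V h k) ⊓ Img n₀ = ⊥ := by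
      rw [AddSubgroup.eq_bot_iff_forall]
      rintro u ⟨⟨hu, -⟩, hun⟩
      have : u ∈ (Img n₀ : AddSubgroup V) ⊓ Fx l := ⟨hun, hu⟩
      rwa [D.img_fx, AddSubgroup.mem_bot] at this
    have h4 : Nat.card ↥(((Fx l : AddSubgroup V) ⊓ P V h k) ⊔ Img n₀) ≤ Nat.card (P V h k) :=
      Nat.card_le_card_of_injective _
        (AddSubgroup.inclusion_injective (sup_le inf_le_right (C.members.1 n₀ hn₀)))
    rw [card_sup_of_disjoint hd, C.card_img_inN hn₀, C.card_P] at h4
    exact Nat.le_of_mul_le_mul_right h4 Nat.card_pos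
  have h5 := C.two_le_card
  have : Nontrivial ↥((Fx l : AddSubgroup V) ⊓ P V h k) := Finite.one_lt_card_iff_nontrivial.1 (by omega)
  obtain ⟨⟨v, hvl, hvP⟩, hv0⟩ := exists_ne (0 : ↥((Fx l : AddSubgroup V) ⊓ P V h k))
  have hv0' : v ≠ 0 := fun e => hv0 (Subtype.ext e)
  obtain ⟨c, hc, hvc⟩ := C.cover hvP hv0'
  have hcomm := comm_of_fixed hB hc.1 hvc hv0' (mem_Fx.1 hvl)
  refine ⟨c, hc, hcomm, fun n hn hln => ?_⟩
  have hle : ∀ j, InN V h k j → l * j = j * l →
      (Img j : AddSubgroup V) = (Fx l : AddSubgroup V) ⊓ P V h k := fun j hj hlj =>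
    eq_of_le_of_card (le_inf (img_le_fx hB hj.1 hl (hmemP j hj).symm hlj) (C.members.1 j hj))
      (by rw [C.card_img_inN hj]; exact h3)
  refine (R_unique hB hc.1 hn.1 hv0' hvc ?_).symm
  rw [hle n hn hln, ← hle c hc hcomm]
  exact hvc

/-- A member different from `c` and not commuting with it. -/
theorem Pair.exists_nc_member {c : H} (hc : InN V h k c) :
    ∃ n, InN V h k n ∧ n ≠ c ∧ c * n ≠ n * c := by
  classical
  have := Fintype.ofFinite H
  by_contra hcon
  push Not at hcon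
  obtain ⟨-, -, hN⟩ := C.members
  set N := Finset.univ.filter fun n => InN V h k n
  have h3 : 2 ≤ (N.erase c).card := by
    rw [Finset.card_erase_of_mem (by simp [N, hc]), hN]
    have := C.two_le_card
    omega
  obtain ⟨a, b, ha, hb, hab⟩ := Finset.one_lt_card_iff.1 h3
  simp only [N, Finset.mem_erase, Finset.mem_filter, Finset.mem_univ, true_and] at ha hb
  have hle : P V h k ≤ Fx c := (C.P_le_sup ha.2 hb.2 hab).trans (sup_le
    (img_le_fx C.ba.bin ha.2.1 hc.1 ha.1 (hcon a ha.2 ha.1))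
    (img_le_fx C.ba.bin hb.2.1 hc.1 hb.1 (hcon b hb.2 hb.1)))
  exact hc.1.1 (eq_one_of_fx (V := V) (eq_top_iff.2 fun x _ => by
    obtain ⟨m, hm, p, hp, rfl⟩ := C.decomp x
    exact AddSubgroup.add_mem _ (hc.2 hm) (hle hp)))

/-- A vector is the difference of a maximal element inside `T`. -/
def Pair.Cov (_C : Pair h k V) (T : AddSubgroup V) (v : V) : Prop :=
  ∃ j : H, IsR V j ∧ (Img j : AddSubgroup V) ≤ T ∧
    Nat.card (Img j : AddSubgroup V) = Nat.card (Img h : AddSubgroup V) ∧ v ∈ (Img j : AddSubgroup V)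

theorem Pair.cov_of_pair {a b : H} (D : Pair a b V)
    (hQ : Nat.card (Img a : AddSubgroup V) = Nat.card (Img h : AddSubgroup V)) {T : AddSubgroup V}
    (hT : P V a b ≤ T) {v : V} (hv : v ∈ P V a b) (hv0 : v ≠ 0) : C.Cov T v := by
  have := Fintype.ofFinite H
  obtain ⟨j, hj, hvj⟩ := D.cover hv hv0
  exact ⟨j, hj.1, (D.members.1 j hj).trans hT, (D.card_img_inN hj).trans hQ, hvj⟩

/-- Covering of the span of `P` and one more space of differences. -/
theorem Pair.cov_T {l n₀ c : H} (hl : IsR V l) (hP : ¬ (Img l : AddSubgroup V) ≤ P V h k)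
    (hn₀ : InN V h k n₀) (hnc : l * n₀ ≠ n₀ * l) (hc : InN V h k c) (hlc : l * c = c * l)
    {v : V} (hv : v ∈ P V h k ⊔ Img l) (hv0 : v ≠ 0) (hvM : (∀ y : V, y + y = 0) → v ∉ M V h k) :
    C.Cov (P V h k ⊔ Img l) v := by
  have := Fintype.ofFinite H
  have hB := C.ba.bin
  obtain ⟨hQl, hlP, c₁, hc₁, -, huniq⟩ := C.partner hl hP hn₀ hnc
  obtain rfl : c = c₁ := huniq c hc hlc
  obtain ⟨n₁, hn₁, hne₁, hnc₁⟩ := C.exists_nc_member hc
  have hnc' : ∀ n, InN V h k n → n ≠ c → l * n ≠ n * l := fun n hn hne e => hne (huniq n hn e)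
  obtain ⟨β, hβ, hβ0⟩ := exists_nonzero_img (V := V) hn₁.1.1
  have hlfx : (Img l : AddSubgroup V) ≤ Fx c := img_le_fx hB hl hc.1 (fun e => hP (e ▸ C.members.1 c hc))
    hlc.symm
  have hLP : ∀ {x : V}, x ∈ (Img l : AddSubgroup V) → x ∈ P V h k → x = 0 := fun {x} h1 h2 => by
    have : x ∈ (Img l : AddSubgroup V) ⊓ P V h k := ⟨h1, h2⟩
    rwa [hlP, AddSubgroup.mem_bot] at this
  obtain ⟨b, hb, a, ha, rfl⟩ := AddSubgroup.mem_sup.1 hv
  rcases eq_or_ne b 0 with rfl | hb0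
  · exact ⟨l, hl, le_sup_right, hQl, by rwa [zero_add]⟩
  obtain ⟨d, hd, hbd⟩ := C.cover hb hb0
  rcases eq_or_ne a 0 with rfl | ha0
  · exact ⟨d, hd.1, (C.members.1 d hd).trans le_sup_left, C.card_img_inN hd, by rwa [add_zero]⟩
  by_cases hdc : d = c
  swap
  · refine C.cov_of_pair (a := l) (b := d) ⟨C.ba, hl, hd.1, (hnc' d hd hdc).symm⟩ hQl ?_
      (AddSubgroup.add_mem _ (AddSubgroup.mem_sup_right hbd) (AddSubgroup.mem_sup_left ha)) hv0
    exact sup_le le_sup_right ((C.members.1 d hd).trans le_sup_left)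
  subst hdc
  have D : Pair l n₁ V := ⟨C.ba, hl, hn₁.1, (hnc' n₁ hn₁ hne₁).symm⟩
  have hD : P V l n₁ ≤ P V h k ⊔ Img l :=
    sup_le le_sup_right ((C.members.1 n₁ hn₁).trans le_sup_left)
  have hβP := C.members.1 n₁ hn₁ hβ
  have haβ0 : a + β ≠ 0 := fun e => ha0 (hLP ha (by
    rw [eq_neg_of_add_eq_zero_left e]; exact AddSubgroup.neg_mem _ hβP))
  obtain ⟨m, hm, hmv⟩ := D.cover
    (AddSubgroup.add_mem _ (AddSubgroup.mem_sup_left ha) (AddSubgroup.mem_sup_right hβ)) haβ0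
  have hmP : ¬ (Img m : AddSubgroup V) ≤ P V h k := fun e => ha0 (hLP ha (by
    have := AddSubgroup.sub_mem _ (e hmv) hβP
    rwa [add_sub_cancel_right] at this))
  have hmT : (Img m : AddSubgroup V) ≤ P V h k ⊔ Img l := (D.members.1 m hm).trans hD
  have hmQ : Nat.card (Img m : AddSubgroup V) = Nat.card (Img h : AddSubgroup V) :=
    (D.card_img_inN hm).trans hQl
  have key : ∀ b' : V, b' ∈ (Img d : AddSubgroup V) → b' ≠ 0 →
      (∃ n, InN V h k n ∧ b' - β ∈ (Img n : AddSubgroup V) ∧ n ≠ d ∧ n ≠ n₁ ∧ m * n = n * m) ∨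
      C.Cov (P V h k ⊔ Img l) (b' + a) := by
    intro b' hb' hb'0
    have hb'β : b' - β ≠ 0 := fun e => hne₁ (by
      rw [sub_eq_zero] at e
      exact R_unique hB hn₁.1 hd.1 hβ0 hβ (e ▸ hb'))
    obtain ⟨n, hn, hnv⟩ := C.cover (AddSubgroup.sub_mem _ (C.members.1 d hd hb') hβP) hb'β
    have hnd : n ≠ d := fun e => hne₁ (by
      subst e
      have := AddSubgroup.sub_mem _ hb' hnv
      rw [sub_sub_cancel] at this
      exact R_unique hB hn₁.1 hn.1 hβ0 hβ this)
    have hnn : n ≠ n₁ := fun e => hne₁ (by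
      subst e
      have := AddSubgroup.add_mem _ hnv hβ
      rw [sub_add_cancel] at this
      exact R_unique hB hn.1 hd.1 hb'0 this hb')
    by_cases hcm : m * n = n * m
    · exact Or.inl ⟨n, hn, hnv, hnd, hnn, hcm⟩
    refine Or.inr (C.cov_of_pair (a := m) (b := n) ⟨C.ba, hm.1, hn.1, fun e => hcm e.symm⟩ hmQ
      (sup_le hmT ((C.members.1 n hn).trans le_sup_left)) ?_ ?_)
    · rw [show b' + a = (a + β) + (b' - β) by abel]
      exact AddSubgroup.add_mem _ (AddSubgroup.mem_sup_left hmv) (AddSubgroup.mem_sup_right hnv)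
    · intro e
      exact ha0 (hLP ha (by
        rw [eq_neg_of_add_eq_zero_right e]
        exact AddSubgroup.neg_mem _ (C.members.1 d hd hb')))
  rcases key b hbd hb0 with ⟨n, hn, hnv, hnd, hnn, hcm⟩ | hcov
  swap
  · exact hcov
  by_cases h0 : ∀ y : V, y + y = 0
  · refine absurd ?_ hnd
    refine C.fix_unique hn hd (hvM h0) ?_ (AddSubgroup.add_mem _ (C.img_le_fx_two h0 hd hbd) (hlfx ha))
    rw [show b + a = (a + β) + (b - β) by abel]
    exact AddSubgroup.add_mem _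
      (img_le_fx hB hm.1 hn.1 (fun e => hmP (e ▸ C.members.1 n hn)) hcm.symm hmv)
      (C.img_le_fx_two h0 hn hnv)
  have h2 := C.ba.two.resolve_left h0
  rcases key (-b) (AddSubgroup.neg_mem _ hbd) (neg_ne_zero.2 hb0) with
    ⟨n', hn', hnv', -, -, hcm'⟩ | hcov
  · exfalso
    have hmn₁ : m * n₁ ≠ n₁ * m := by
      intro e
      have hle : P V h k ≤ Fx m := (C.P_le_sup hn hn₁ hnn).trans (sup_le
        (img_le_fx hB hn.1 hm.1 (fun e => hmP (e ▸ C.members.1 n hn)) hcm)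
        (img_le_fx hB hn₁.1 hm.1 (fun e => hmP (e ▸ C.members.1 n₁ hn₁)) e))
      obtain ⟨u, hu, hu0⟩ := exists_nonzero_img (V := V) hd.1.1
      have hmd := comm_of_fixed hB hd.1 hu hu0 (mem_Fx.1 (hle (C.members.1 d hd hu)))
      have h1 := img_le_fx hB hm.1 hd.1 (fun e => hmP (e ▸ C.members.1 d hd)) hmd.symm hmv
      have h3 := AddSubgroup.sub_mem _ h1 (hlfx ha)
      rw [add_sub_cancel_left] at h3
      exact hnc₁ (comm_of_fixed hB hn₁.1 hβ hβ0 (mem_Fx.1 h3))
    obtain ⟨-, -, c', -, -, hu'⟩ := C.partner hm.1 hmP hn₁ hmn₁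
    have e : n' = n := (hu' n' hn' hcm').trans (hu' n hn hcm).symm
    subst e
    have h4 := AddSubgroup.add_mem _ hnv hnv'
    rw [show b - β + (-b - β) = -(β + β) by abel] at h4
    exact hnn (R_unique hB hn.1 hn₁.1 (fun e => hβ0 (h2 β e))
      (by simpa using AddSubgroup.neg_mem _ h4) (AddSubgroup.add_mem _ hβ hβ))
  · -- carry the element over by `c`
    obtain ⟨j, hj, hjT, hjQ, hjv⟩ := hcov
    have hcT : ∀ x ∈ P V h k ⊔ Img l, d • x ∈ P V h k ⊔ Img l := fun x hx => by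
      rw [show d • x = x + (d • x - x) by abel]
      exact AddSubgroup.add_mem _ hx (AddSubgroup.mem_sup_left (C.members.1 d hd (sub_mem_Img d x)))
    refine ⟨d * j * d⁻¹, isR_conj hj d, fun x hx => ?_, ?_, ?_⟩
    · have h5 := img_conj (g := d⁻¹) hx
      rw [show d⁻¹ * (d * j * d⁻¹) * d⁻¹⁻¹ = j by group] at h5
      have := hcT _ (hjT h5)
      rwa [smul_inv_smul] at this
    · rw [← hjQ]
      refine le_antisymm ?_ ?_
      · refine Nat.card_le_card_of_injective (fun x => ⟨d⁻¹ • (x : V), ?_⟩) fun x y e =>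
          Subtype.ext (smul_left_cancel _ (Subtype.ext_iff.1 e :))
        have h5 := img_conj (g := d⁻¹) x.2
        rwa [show d⁻¹ * (d * j * d⁻¹) * d⁻¹⁻¹ = j by group] at h5
      · exact Nat.card_le_card_of_injective (fun x => ⟨d • (x : V), img_conj x.2⟩) fun x y e =>
          Subtype.ext (smul_left_cancel _ (Subtype.ext_iff.1 e :))
    · have h5 := img_conj (g := d) hjv
      rwa [smul_add, smul_neg, neg_of_R hB hd.1 hbd, neg_neg, mem_Fx.1 (hlfx ha)] at h5

end

section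

variable (C : Pair h k V)
include C

/-- The configuration in characteristic two is impossible. -/
theorem Pair.three_two (h0 : ∀ y : V, y + y = 0) {l n₀ : H} (hl : IsR V l)
    (hP : ¬ (Img l : AddSubgroup V) ≤ P V h k) (hn₀ : InN V h k n₀) (hnc : l * n₀ ≠ n₀ * l) : False := by
  classical
  have := Fintype.ofFinite V
  have := Fintype.ofFinite H
  have hB := C.ba.bin
  obtain ⟨hQl, hlP, c, hc, hlc, -⟩ := C.partner hl hP hn₀ hnc
  obtain ⟨n₁, hn₁, hne₁, hnc₁⟩ := C.exists_nc_member hc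
  set Q := Nat.card (Img h : AddSubgroup V) with hQ
  have hQ2 : 2 ≤ Q := C.two_le_card
  set T := P V h k ⊔ (Img l : AddSubgroup V) with hT
  have hTcard : Nat.card T = Q * Q * Q := by
    rw [hT, card_sup_of_disjoint (by rw [inf_comm, hlP]), C.card_P, hQl]
  set Z := T ⊓ M V h k
  have hdec : ∀ x ∈ T, ∃ z ∈ Z, ∃ p ∈ P V h k, z + p = x := fun x hx => by
    obtain ⟨m, hm, p, hp, rfl⟩ := C.decomp x
    refine ⟨m, ⟨?_, hm⟩, p, hp, rfl⟩
    have := AddSubgroup.sub_mem _ hx (AddSubgroup.mem_sup_left hp)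
    rwa [add_sub_cancel_right] at this
  have hZP : Z ⊓ P V h k = ⊥ := by
    rw [eq_bot_iff, ← C.M_P]
    exact inf_le_inf_right _ inf_le_right
  have hZcard : Nat.card Z = Q := by
    have e : Z ⊔ P V h k = T := le_antisymm (sup_le inf_le_left le_sup_left) fun x hx => by
      obtain ⟨z, hz, p, hp, rfl⟩ := hdec x hx
      exact AddSubgroup.mem_sup.2 ⟨z, hz, p, hp, rfl⟩
    rw [← e, card_sup_of_disjoint hZP, C.card_P] at hTcard
    exact Nat.eq_of_mul_eq_mul_right (Nat.mul_pos (by omega) (by omega)) (hTcard.trans (mul_assoc Q Q Q))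
  have hcP : (Fx c : AddSubgroup V) ⊓ P V h k = Img c :=
    (eq_of_le_of_card (le_inf (C.img_le_fx_two h0 hc) (C.members.1 c hc))
      (by rw [C.card_meet hc, C.card_img_inN hc])).symm
  set A := (Fx c : AddSubgroup V) ⊓ T
  have hA : A = Z ⊔ Img c := by
    refine le_antisymm (fun x hx => ?_) (sup_le (le_inf (inf_le_right.trans hc.2) inf_le_left)
      (le_inf (C.img_le_fx_two h0 hc) ((C.members.1 c hc).trans le_sup_left)))
    obtain ⟨z, hz, p, hp, rfl⟩ := hdec x hx.2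
    refine AddSubgroup.mem_sup.2 ⟨z, hz, p, ?_, rfl⟩
    rw [← hcP]
    refine ⟨?_, hp⟩
    have := AddSubgroup.sub_mem _ hx.1 (hc.2 hz.2)
    rwa [add_sub_cancel_left] at this
  have hAcard : Nat.card A = Q * Q := by
    rw [hA, card_sup_of_disjoint ?_, hZcard, C.card_img_inN hc]
    rw [eq_bot_iff, ← hZP]
    exact inf_le_inf_left _ (C.members.1 c hc)
  let J : Finset H := Finset.univ.filter fun j => IsR V j ∧ (Img j : AddSubgroup V) ≤ T ∧
    Nat.card (Img j : AddSubgroup V) = Q ∧ ∃ v ∈ (Img j : AddSubgroup V), v ∈ A ∧ v ∉ M V h k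
  have hJ : ∀ j ∈ J, IsR V j ∧ (Img j : AddSubgroup V) ≤ A ∧ A ≤ Fx j ∧
      (Img j : AddSubgroup V) ⊓ M V h k = ⊥ ∧ n₁ * j ≠ j * n₁ := by
    intro j hj
    simp only [J, Finset.mem_filter, Finset.mem_univ, true_and] at hj
    obtain ⟨hR, hjT, hjQ, v, hvj, hvA, hvM⟩ := hj
    have hv0 : v ≠ 0 := fun e => hvM (e ▸ AddSubgroup.zero_mem _)
    have hjA : (Img j : AddSubgroup V) ≤ A := by
      refine le_inf ?_ hjT
      rcases eq_or_ne j c with e | hjc
      · rw [e]; exact C.img_le_fx_two h0 hc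
      · exact img_le_fx hB hR hc.1 hjc (comm_of_fixed hB hR hvj hv0 (mem_Fx.1 hvA.1))
    have hM : (Img j : AddSubgroup V) ⊓ M V h k = ⊥ := by
      rw [AddSubgroup.eq_bot_iff_forall]
      rintro z ⟨hzj, hzM⟩
      by_contra hz0
      have hall : ∀ n, InN V h k n → v ∈ (Fx n : AddSubgroup V) := fun n hn => by
        rcases eq_or_ne j n with e | hjn
        · exfalso
          subst e
          have : z ∈ (Img j : AddSubgroup V) ⊓ M V h k := ⟨hzj, hzM⟩
          rw [C.img_M hn, AddSubgroup.mem_bot] at this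
          exact hz0 this
        · exact img_le_fx hB hR hn.1 hjn (comm_of_fixed hB hR hzj hz0 (mem_Fx.1 (hn.2 hzM))) hvj
      exact hvM ⟨hall h C.inN_left, hall k C.inN_right⟩
    refine ⟨hR, hjA, ?_, hM, fun e => ?_⟩
    · rcases eq_or_ne j c with e | hjc
      · rw [e]; exact inf_le_left
      have h1 : (Img j : AddSubgroup V) ⊔ Img c ≤ A :=
        sup_le hjA (hA ▸ le_sup_right)
      have hd : (Img j : AddSubgroup V) ⊓ Img c = ⊥ := by
        rw [AddSubgroup.eq_bot_iff_forall]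
        rintro u ⟨hu, hu'⟩
        by_contra hu0
        exact hjc (R_unique hB hR hc.1 hu0 hu hu')
      rw [← eq_of_le_of_card h1 (by rw [card_sup_of_disjoint hd, hjQ, C.card_img_inN hc, hAcard])]
      have hcj : j * c = c * j := (comm_of_fixed hB hR hvj hv0 (mem_Fx.1 hvA.1)).symm
      refine sup_le (fun u hu => mem_Fx.2 ?_) (img_le_fx hB hc.1 hR hjc.symm hcj)
      rw [neg_of_R hB hR hu, neg_eq_iff_add_eq_zero, h0]
    · rcases eq_or_ne j n₁ with e' | hjn
      · subst e'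
        exact hne₁ (C.fix_unique hn₁ hc hvM (C.img_le_fx_two h0 hn₁ hvj) hvA.1)
      · exact hne₁ (C.fix_unique hn₁ hc hvM (img_le_fx hB hR hn₁.1 hjn e hvj) hvA.1)
  obtain ⟨u₀, hu₀, hu₀0⟩ := exists_nonzero_img (V := V) hn₁.1.1
  have hd : ∀ j ∈ J, j • u₀ - u₀ ≠ 0 := fun j hj e => (hJ j hj).2.2.2.2
    ((comm_of_fixed hB hn₁.1 hu₀ hu₀0 (sub_eq_zero.1 e)).symm)
  have hsplit : ∀ j ∈ J, ∃ p, p ∈ (Img c : AddSubgroup V) ∧ p ≠ 0 ∧ (j • u₀ - u₀) - p ∈ Z := by
    intro j hj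
    have h1 : j • u₀ - u₀ ∈ Z ⊔ Img c := hA ▸ (hJ j hj).2.1 (sub_mem_Img j u₀)
    obtain ⟨z, hz, p, hp, e⟩ := AddSubgroup.mem_sup.1 h1
    refine ⟨p, hp, fun hp0 => hd j hj ?_, by rwa [← e, add_sub_cancel_right]⟩
    have : j • u₀ - u₀ ∈ (Img j : AddSubgroup V) ⊓ M V h k :=
      ⟨sub_mem_Img j u₀, by rw [← e, hp0, add_zero]; exact hz.2⟩
    rwa [(hJ j hj).2.2.2.1, AddSubgroup.mem_bot] at this
  choose! p hp hp0 hpZ using hsplit
  let A' : Finset V := Finset.univ.filter fun x => x ∈ A ∧ x ∉ M V h k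
  let U : H → Finset V := fun j => Finset.univ.filter fun x => x ∈ (Img j : AddSubgroup V) ∧ x ≠ 0
  have hA'sub : A' ⊆ J.biUnion U := by
    intro x hx
    simp only [A', Finset.mem_filter, Finset.mem_univ, true_and] at hx
    have hx0 : x ≠ 0 := fun e => hx.2 (e ▸ AddSubgroup.zero_mem _)
    obtain ⟨j, hj, hjT, hjQ, hxj⟩ := C.cov_T hl hP hn₀ hnc hc hlc hx.1.2 hx0 (fun _ => hx.2)
    simp only [Finset.mem_biUnion, U, J, Finset.mem_filter, Finset.mem_univ, true_and]
    exact ⟨j, ⟨hj, hjT, hjQ, x, hxj, hx.1, hx.2⟩, hxj, hx0⟩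
  have hA'card : Q * Q - Q ≤ A'.card := by
    have h1 : (Finset.univ.filter fun x => x ∈ A).card ≤
        A'.card + (Finset.univ.filter fun x => x ∈ Z).card := by
      refine le_trans (Finset.card_le_card fun x hx => ?_) (Finset.card_union_le _ _)
      simp only [Finset.mem_filter, Finset.mem_univ, true_and, A', Finset.mem_union] at hx ⊢
      by_cases hxM : x ∈ M V h k
      · exact Or.inr ⟨hx.2, hxM⟩
      · exact Or.inl ⟨hx, hxM⟩
    have e1 : (Finset.univ.filter fun x => x ∈ A).card = Q * Q := by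
      rw [← hAcard, Nat.card_eq_fintype_card, Fintype.card_subtype]
    have e2 : (Finset.univ.filter fun x => x ∈ Z).card = Q := by
      rw [← hZcard, Nat.card_eq_fintype_card, Fintype.card_subtype]
    omega
  have hUle : ∀ j ∈ J, (U j).card ≤ Q - 1 := fun j hj => by
    have := (Finset.mem_filter.1 hj).2.2.2.1
    simp only [U]
    rw [card_nz, this]
  have hJcard : Q ≤ J.card := by
    have h1 := ((Finset.card_le_card hA'sub).trans Finset.card_biUnion_le).trans
      (Finset.sum_le_card_nsmul J _ _ hUle)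
    rw [smul_eq_mul] at h1
    have h2 : Q * Q - Q = Q * (Q - 1) := by rw [Nat.mul_sub, mul_one]
    exact Nat.le_of_mul_le_mul_right (h2 ▸ hA'card.trans h1) (by omega)
  obtain ⟨j₁, hj₁, j₂, hj₂, hne, hpe⟩ := Finset.exists_ne_map_eq_of_card_lt_of_maps_to
    (t := Finset.univ.filter fun x => x ∈ (Img c : AddSubgroup V) ∧ x ≠ 0) (s := J)
    (by rw [card_nz, C.card_img_inN hc]; omega)
    (f := p) (fun j hj => by
      simp only [Finset.coe_filter, Finset.mem_univ, true_and, Set.mem_setOf_eq]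
      exact ⟨hp j hj, hp0 j hj⟩)
  have hzZ := AddSubgroup.sub_mem _ (hpZ j₁ hj₁) (hpZ j₂ hj₂)
  rw [hpe, sub_sub_sub_cancel_right] at hzZ
  set z := j₁ • u₀ - u₀ - (j₂ • u₀ - u₀) with hz
  have hz0 : z ≠ 0 := fun e => hne (R_unique hB (hJ j₁ hj₁).1 (hJ j₂ hj₂).1 (hd j₁ hj₁)
    (sub_mem_Img j₁ u₀) (sub_eq_zero.1 e ▸ sub_mem_Img j₂ u₀))
  have hez : (j₁ * j₂) • u₀ - u₀ = z := by
    have h2 := mem_Fx.1 ((hJ j₁ hj₁).2.2.1 ((hJ j₂ hj₂).2.1 (sub_mem_Img j₂ u₀)))
    rw [mul_smul, show j₂ • u₀ = u₀ + (j₂ • u₀ - u₀) by abel, smul_add, h2, hz,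
      sub_eq_add_neg (j₁ • u₀ - u₀) (j₂ • u₀ - u₀), neg_eq_iff_add_eq_zero.2 (h0 (j₂ • u₀ - u₀))]
    abel
  have hzn : n₁ • z = z := mem_Fx.1 (hn₁.2 hzZ.2)
  have hconj : (n₁ * (j₁ * j₂) * n₁⁻¹) • (n₁ • u₀) - n₁ • u₀ = z := by
    rw [mul_smul, mul_smul, inv_smul_smul, ← smul_sub, hez, hzn]
  have hcA : (Img c : AddSubgroup V) ≤ A := hA ▸ le_sup_right
  have hfixA : A ≤ Fx (j₁ * j₂) := fun x hx => fx_mul ((hJ j₁ hj₁).2.2.1 hx) ((hJ j₂ hj₂).2.2.1 hx)
  have hM₁ : M V h k ≤ Fx n₁ := hn₁.2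
  have hc' : InN V h k (n₁ * c * n₁⁻¹) := C.smul_inN hM₁ hc
  have hc'c : c ≠ n₁ * c * n₁⁻¹ := fun e => hnc₁ (by
    conv_lhs => rw [e]
    group)
  have hle : P V h k ≤ Fx (S hB z) := (C.P_le_sup hc hc' hc'c).trans (sup_le
    (hcA.trans (hfixA.trans (S_fix hB hez))) fun x hx => S_fix hB hconj (fx_conj.2 (hfixA (hcA (by
      have := img_conj (g := n₁⁻¹) hx
      rwa [show n₁⁻¹ * (n₁ * c * n₁⁻¹) * n₁⁻¹⁻¹ = c by group] at this)))))
  have h1 := S_spec hB hez
  rw [mem_Fx.1 (hle (C.members.1 n₁ hn₁ hu₀)), sub_self] at h1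
  exact hz0 h1.symm

/-- The configuration in odd characteristic is impossible. -/
theorem Pair.three_odd (h0 : ¬ ∀ y : V, y + y = 0) {l n₀ : H} (hl : IsR V l)
    (hP : ¬ (Img l : AddSubgroup V) ≤ P V h k) (hn₀ : InN V h k n₀) (hnc : l * n₀ ≠ n₀ * l) : False := by
  classical
  have := Fintype.ofFinite V
  have := Fintype.ofFinite H
  have hB := C.ba.bin
  have h2 := C.ba.two.resolve_left h0
  obtain ⟨hQl, hlP, c, hc, hlc, -⟩ := C.partner hl hP hn₀ hnc
  set Q := Nat.card (Img h : AddSubgroup V) with hQ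
  have hQ2 : 2 ≤ Q := C.two_le_card
  set T := P V h k ⊔ (Img l : AddSubgroup V) with hT
  have hTcard : Nat.card T = Q * Q * Q := by
    rw [hT, card_sup_of_disjoint (by rw [inf_comm, hlP]), C.card_P, hQl]
  let PP : Finset H := Finset.univ.filter fun j => IsR V j ∧ (Img j : AddSubgroup V) ≤ T ∧
    Nat.card (Img j : AddSubgroup V) = Q
  have hPP : ∀ j, j ∈ PP ↔ IsR V j ∧ (Img j : AddSubgroup V) ≤ T ∧
    Nat.card (Img j : AddSubgroup V) = Q := fun j => by simp [PP]
  have hcov : ∀ x ∈ T, x ≠ 0 → ∃ j ∈ PP, x ∈ (Img j : AddSubgroup V) := fun x hx hx0 => by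
    obtain ⟨j, hj, hjT, hjQ, hxj⟩ := C.cov_T hl hP hn₀ hnc hc hlc hx hx0 (fun e => absurd e h0)
    exact ⟨j, (hPP j).2 ⟨hj, hjT, hjQ⟩, hxj⟩
  let L : H → AddSubgroup V := fun i => (Fx i : AddSubgroup V) ⊓ T
  have hLmeet : ∀ i ∈ PP, L i ⊓ Img i = ⊥ := fun i hi => by
    rw [AddSubgroup.eq_bot_iff_forall]
    rintro u ⟨⟨hu, -⟩, hu'⟩
    exact C.two_img h0 ((hPP i).1 hi).1 hu' (mem_Fx.1 hu)
  have hLcard : ∀ i ∈ PP, Nat.card (L i) = Q * Q := fun i hi => by
    obtain ⟨hR, hiT, hiQ⟩ := (hPP i).1 hi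
    have h1 := card_le_meet_mul (V := V) i T
    have h3 : Nat.card ↥(L i ⊔ Img i) ≤ Nat.card T :=
      Nat.card_le_card_of_injective _ (AddSubgroup.inclusion_injective (sup_le inf_le_right hiT))
    rw [card_sup_of_disjoint (hLmeet i hi), hTcard, hiQ] at h3
    rw [hTcard, hiQ] at h1
    exact Nat.eq_of_mul_eq_mul_right (by omega) (le_antisymm h3 h1)
  have hadj : ∀ i ∈ PP, ∀ j ∈ PP, ∀ x ∈ L i, x ∈ (Img j : AddSubgroup V) → x ≠ 0 →
      j ≠ i ∧ i * j = j * i ∧ (Img j : AddSubgroup V) ≤ L i := fun i hi j hj x hx hxj hx0 => by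
    have hji : j ≠ i := fun e => hx0 (by
      subst e
      have : x ∈ L j ⊓ Img j := ⟨hx, hxj⟩
      rwa [hLmeet j hj, AddSubgroup.mem_bot] at this)
    have hcm := comm_of_fixed hB ((hPP j).1 hj).1 hxj hx0 (mem_Fx.1 hx.1)
    exact ⟨hji, hcm, le_inf (img_le_fx hB ((hPP j).1 hj).1 ((hPP i).1 hi).1 hji hcm) ((hPP j).1 hj).2.1⟩
  have hU : ∀ j ∈ PP, (Finset.univ.filter fun x => x ∈ (Img j : AddSubgroup V) ∧ x ≠ 0).card = Q - 1 :=
    fun j hj => by rw [card_nz, ((hPP j).1 hj).2.2]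
  have hdisj : ∀ s : Finset H, s ⊆ PP → (s : Set H).PairwiseDisjoint
      fun j => Finset.univ.filter fun x => x ∈ (Img j : AddSubgroup V) ∧ x ≠ 0 := by
    intro s hs a ha b hb hab
    refine Finset.disjoint_left.2 fun x hxa hxb => hab ?_
    simp only [Finset.mem_filter, Finset.mem_univ, true_and] at hxa hxb
    exact R_unique hB ((hPP a).1 (hs ha)).1 ((hPP b).1 (hs hb)).1 hxa.2 hxa.1 hxb.1
  have hcount : ∀ W : AddSubgroup V, W ≤ T →
      (∀ j ∈ PP, ∀ x ∈ W, x ∈ (Img j : AddSubgroup V) → x ≠ 0 → (Img j : AddSubgroup V) ≤ W) →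
      (PP.filter fun j => (Img j : AddSubgroup V) ≤ W).card * (Q - 1) = Nat.card W - 1 := by
    intro W hW hclosed
    rw [← card_nz W, ← Finset.sum_const_nat (fun j hj => hU j (Finset.mem_filter.1 hj).1),
      ← Finset.card_biUnion (hdisj _ (Finset.filter_subset _ _))]
    congr 1
    ext x
    simp only [Finset.mem_biUnion, Finset.mem_filter, Finset.mem_univ, true_and]
    constructor
    · rintro ⟨j, ⟨-, hjW⟩, hxj, hx0⟩
      exact ⟨hjW hxj, hx0⟩
    · rintro ⟨hxW, hx0⟩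
      obtain ⟨j, hj, hxj⟩ := hcov x (hW hxW) hx0
      exact ⟨j, ⟨hj, hclosed j hj x hxW hxj hx0⟩, hxj, hx0⟩
  have hnb : ∀ i ∈ PP, (PP.filter fun j => (Img j : AddSubgroup V) ≤ L i).card = Q + 1 := fun i hi => by
    have h1 := hcount (L i) inf_le_right fun j hj x hx hxj hx0 => (hadj i hi j hj x hx hxj hx0).2.2
    rw [hLcard i hi, show Q * Q - 1 = (Q + 1) * (Q - 1) by simpa using Nat.mul_self_sub_mul_self_eq Q 1] at h1
    exact Nat.eq_of_mul_eq_mul_right (by omega) h1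
  have htwo : ∀ i ∈ PP, ∀ i' ∈ PP, i ≠ i' →
      (PP.filter fun j => (Img j : AddSubgroup V) ≤ L i ⊓ L i').card = 1 := fun i hi i' hi' hne => by
    have hclosed : ∀ j ∈ PP, ∀ x ∈ L i ⊓ L i', x ∈ (Img j : AddSubgroup V) → x ≠ 0 →
        (Img j : AddSubgroup V) ≤ L i ⊓ L i' := fun j hj x hx hxj hx0 =>
      le_inf (hadj i hi j hj x hx.1 hxj hx0).2.2 (hadj i' hi' j hj x hx.2 hxj hx0).2.2
    have h1 := hcount (L i ⊓ L i') (inf_le_left.trans inf_le_right) hclosed
    have hge : Q ≤ Nat.card ↥(L i ⊓ L i') := by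
      have h3 := card_le_meet_mul (V := V) i' (L i)
      have h4 : (Fx i' : AddSubgroup V) ⊓ L i = L i ⊓ L i' := by
        simp only [L]
        rw [← inf_assoc, inf_comm (Fx i' : AddSubgroup V), inf_inf_inf_comm, inf_idem, inf_assoc]
      rw [h4, hLcard i hi, ((hPP i').1 hi').2.2] at h3
      exact Nat.le_of_mul_le_mul_right h3 (by omega)
    set F := PP.filter fun j => (Img j : AddSubgroup V) ≤ L i ⊓ L i' with hF
    refine le_antisymm ?_ ?_
    · by_contra hgt
      obtain ⟨a, b, ha, hb, hab⟩ := Finset.one_lt_card_iff.1 (not_le.1 hgt)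
      rw [hF, Finset.mem_filter] at ha hb
      have hd : (Img a : AddSubgroup V) ⊓ Img b = ⊥ := by
        rw [AddSubgroup.eq_bot_iff_forall]
        rintro u ⟨hu, hu'⟩
        by_contra hu0
        exact hab (R_unique hB ((hPP a).1 ha.1).1 ((hPP b).1 hb.1).1 hu0 hu hu')
      have hAB : Nat.card ↥((Img a : AddSubgroup V) ⊔ Img b) = Q * Q := by
        rw [card_sup_of_disjoint hd, ((hPP a).1 ha.1).2.2, ((hPP b).1 hb.1).2.2]
      have eL : L i = L i' :=
        (eq_of_le_of_card (sup_le (le_inf_iff.1 ha.2).1 (le_inf_iff.1 hb.2).1)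
          (by rw [hAB, hLcard i hi])).symm.trans
        (eq_of_le_of_card (sup_le (le_inf_iff.1 ha.2).2 (le_inf_iff.1 hb.2).2)
          (by rw [hAB, hLcard i' hi']))
      obtain ⟨v', hv', hv'0⟩ := exists_nonzero_img (V := V) ((hPP i').1 hi').1.1
      have hTeq : L i ⊔ (Img i : AddSubgroup V) = T :=
        eq_of_le_of_card (sup_le inf_le_right ((hPP i).1 hi).2.1)
          (by rw [card_sup_of_disjoint (hLmeet i hi), hLcard i hi, ((hPP i).1 hi).2.2, hTcard])
      obtain ⟨w, hw, u, hu, hwu⟩ := AddSubgroup.mem_sup.1 (hTeq ▸ ((hPP i').1 hi').2.1 hv')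
      have hiw : i • w = w := mem_Fx.1 hw.1
      have hi'w : i' • w = w := mem_Fx.1 (eL ▸ hw : w ∈ L i').1
      have hiu := neg_of_R hB ((hPP i).1 hi).1 hu
      have hi'u : i' • u = -(w + w) - u := by
        have := neg_of_R hB ((hPP i').1 hi').1 hv'
        rw [← hwu, smul_add, hi'w] at this
        rw [eq_sub_of_add_eq' this]
        abel
      have he : (i * i') • u - u = -(w + w) := by
        rw [mul_smul, hi'u, smul_sub, smul_neg, smul_add, hiw, hiu]
        abel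
      have hf : -(w + w) ∈ (Fx (i * i') : AddSubgroup V) := by
        rw [mem_Fx, mul_smul, smul_neg, smul_add, hi'w, smul_neg, smul_add, hiw]
      have h5 : -(w + w) = 0 := h2 _ (two_of_fixed hB ⟨u, he⟩ hf)
      have hw0 : w = 0 := h2 w (neg_eq_zero.1 h5)
      rw [hw0, zero_add] at hwu
      exact hne (R_unique hB ((hPP i).1 hi).1 ((hPP i').1 hi').1 hv'0 (hwu ▸ hu) hv')
    · by_contra hlt
      rw [Nat.lt_one_iff.1 (not_le.1 hlt), zero_mul] at h1
      omega
  have hcard : PP.card * (Q - 1) = Q * Q * Q - 1 := by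
    have := hcount T le_rfl fun j hj x _ _ _ => ((hPP j).1 hj).2.1
    rwa [Finset.filter_true_of_mem fun j hj => ((hPP j).1 hj).2.1, hTcard] at this
  obtain ⟨p, hp, hpQ⟩ := Nat.exists_prime_and_dvd (show Q ≠ 1 by omega)
  have hp3 : 3 ≤ p := by
    rcases hp.two_le.lt_or_eq with h3 | h3
    · exact h3
    exfalso
    have := Fact.mk hp
    obtain ⟨y, hy⟩ := exists_prime_addOrderOf_dvd_card' (G := (Img h : AddSubgroup V)) p hpQ
    have e : (y : V) + y = 0 := by
      have := addOrderOf_nsmul_eq_zero y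
      rw [hy, ← h3, two_nsmul] at this
      exact congrArg Subtype.val this
    have : y = 0 := Subtype.ext (h2 _ e)
    rw [this, addOrderOf_zero] at hy
    omega
  let r : PP → PP → Prop := fun i j => (Img (j : H) : AddSubgroup V) ≤ L i
  have hsym : ∀ i j : PP, r i j → r j i := by
    intro i j hij
    obtain ⟨u, hu, hu0⟩ := exists_nonzero_img (V := V) ((hPP j).1 j.2).1.1
    obtain ⟨hne, hcm, -⟩ := hadj i i.2 j j.2 u (hij hu) hu hu0
    exact le_inf (img_le_fx hB ((hPP i).1 i.2).1 ((hPP j).1 j.2).1 hne.symm hcm.symm) ((hPP i).1 i.2).2.1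
  have hirr : ∀ i : PP, ¬ r i i := by
    intro i hle
    obtain ⟨u, hu, hu0⟩ := exists_nonzero_img (V := V) ((hPP i).1 i.2).1.1
    exact (hadj i i.2 i i.2 u (hle hu) hu hu0).1 rfl
  have hr : ∀ s : AddSubgroup V, (Finset.univ.filter fun j : PP => (Img (j : H) : AddSubgroup V) ≤ s).card =
      (PP.filter fun j => (Img j : AddSubgroup V) ≤ s).card := fun s => by
    rw [← Finset.card_map (Function.Embedding.subtype _)]
    congr 1
    ext j
    simp [and_comm]
  refine no_polarity (Q := Q) p hp hp3 hpQ (by omega) r hsym hirr (fun i => ?_) (fun i j hij => ?_) ?_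
  · rw [hr]
    exact hnb i i.2
  · rw [← htwo i i.2 j j.2 (fun e => hij (Subtype.ext e)), ← hr]
    simp only [r, le_inf_iff]
  · rw [Fintype.card_coe]
    exact hcard

/-- Maximal elements with differences outside `P` commute with the members. -/
theorem Pair.comm_outside {l : H} (hl : IsR V l) (hP : ¬ (Img l : AddSubgroup V) ≤ P V h k) {n : H}
    (hn : InN V h k n) : l * n = n * l := by
  by_contra hnc
  by_cases h0 : ∀ y : V, y + y = 0
  · exact C.three_two h0 hl hP hn hnc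
  · exact C.three_odd h0 hl hP hn hnc

end

end CfsgLib.BinaryAffine
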