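/-
Irreducible binary groups of automorphisms: either there are at most two elements, or the differences of
two non-commuting maximal elements fill the whole space and the group is dihedral.
-/
import Cfsg.Agent.Lib.Perm.BinaryAffine.Three

set_option autoImplicit false
set_option linter.unusedSectionVars false
set_option maxHeartbeats 800000

namespace CfsgLib.BinaryAffine

variable {H V : Type*} [Group H] [AddCommGroup V] [DistribMulAction H V]

/-- No invariant subgroups. -/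
def Irr (H V : Type*) [Group H] [AddCommGroup V] [DistribMulAction H V] : Prop :=
  ∀ U : AddSubgroup V, (∀ g : H, ∀ u ∈ U, g • u ∈ U) → U = ⊥ ∨ U = ⊤

variable [FaithfulSMul H V] [Finite V] [Finite H]

/-- The semiregular case. -/
theorem prime_of_semiregular [Nontrivial V] (hB : Bin H V) (hirr : Irr H V)
    (hs : ∀ g : H, g ≠ 1 → (Fx g : AddSubgroup V) = ⊥) : (Nat.card V).Prime ∧ Nat.card H ≤ 2 := by
  classical
  have huniq := card_le_two_of_semiregular hB hs
  constructor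
  · obtain ⟨q, hq, hqd⟩ := Nat.exists_prime_and_dvd (Finite.one_lt_card (α := V)).ne'
    have := Fact.mk hq
    obtain ⟨y, hy⟩ := exists_prime_addOrderOf_dvd_card' q hqd
    have hneg : ∀ g : H, g ≠ 1 → ∀ x : V, g • x = -x := fun g hg x => by
      have hgg : g * g = 1 := by
        by_contra h1
        exact hg (by simpa using huniq (g * g) g h1 hg)
      have h1 : g • x + x ∈ (Fx g : AddSubgroup V) := by
        rw [mem_Fx, smul_add, ← mul_smul, hgg, one_smul, add_comm]
      rw [hs g hg, AddSubgroup.mem_bot] at h1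
      exact eq_neg_of_add_eq_zero_left h1
    have hinv : ∀ g : H, ∀ u ∈ AddSubgroup.zmultiples y, g • u ∈ AddSubgroup.zmultiples y := by
      intro g u hu
      rcases eq_or_ne g 1 with rfl | hg
      · rwa [one_smul]
      · rw [hneg g hg]
        exact AddSubgroup.neg_mem _ hu
    rcases hirr _ hinv with h | h
    · rw [AddSubgroup.zmultiples_eq_bot] at h
      rw [h, addOrderOf_zero] at hy
      exact absurd hy hq.one_lt.ne
    · rw [← AddSubgroup.card_top (G := V), ← h, Nat.card_zmultiples, hy]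
      exact hq
  · by_cases hex : ∃ h : H, h ≠ 1
    · obtain ⟨h, hh⟩ := hex
      have := Fintype.ofFinite H
      have : (Finset.univ : Finset H) ⊆ {1, h} := fun g _ => by
        rcases eq_or_ne g 1 with e | e
        · simp [e]
        · simp [huniq g h e hh]
      rw [Nat.card_eq_fintype_card, ← Finset.card_univ]
      exact (Finset.card_le_card this).trans Finset.card_le_two
    · push Not at hex
      have : Subsingleton H := ⟨fun a b => by rw [hex a, hex b]⟩
      exact (Finite.card_le_one_iff_subsingleton.2 this).trans one_le_two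

theorem exists_pre_neg {h : H} (hB : Bin H V) (h2 : ∀ x : V, x + x = 0 → x = 0) (hh : IsR V h) {u : V}
    (hu : u ∈ (Img h : AddSubgroup V)) : ∃ y ∈ (Img h : AddSubgroup V), h • y - y = u := by
  obtain ⟨⟨y, hy⟩, hyu⟩ := Finite.surjective_of_injective
    (f := fun y : (Img h : AddSubgroup V) => (⟨h • (y : V) - y, sub_mem_Img h _⟩ : (Img h : AddSubgroup V)))
    (fun a b e => Subtype.ext (by
      have e' : h • (a : V) - a = h • (b : V) - b := congrArg Subtype.val e
      rw [neg_of_R hB hh a.2, neg_of_R hB hh b.2] at e'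
      refine sub_eq_zero.1 (h2 _ ?_)
      rw [show (a : V) - b + ((a : V) - b) = (-(b : V) - b) - (-(a : V) - a) by abel, e', sub_self])) ⟨u, hu⟩
  exact ⟨y, hy, congrArg Subtype.val hyu⟩

/-- Two maximal elements do not commute. -/
theorem exists_pair (ba : BA H V) (hirr : Irr H V) {g₀ : H} (hg₀ : g₀ ≠ 1)
    (hF : (Fx g₀ : AddSubgroup V) ≠ ⊥) : ∃ h k : H, Pair h k V := by
  have hB := ba.bin
  obtain ⟨h, hh, hle⟩ := exists_isR (V := V) hg₀
  by_contra hcon
  push Not at hcon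
  have hcomm : ∀ a b : H, IsR V a → IsR V b → b * a = a * b := fun a b ha hb => by
    by_contra hne
    exact hcon a b ⟨ba, ha, hb, hne⟩
  by_cases h0 : ∀ y : V, y + y = 0
  · let U : AddSubgroup V := ⨅ j : {j : H // IsR V j}, Fx j.1
    have hinv : ∀ g : H, ∀ u ∈ U, g • u ∈ U := fun g u hu => by
      simp only [U, AddSubgroup.mem_iInf] at hu ⊢
      rintro ⟨j, hj⟩
      have := hu ⟨g⁻¹ * j * g, by simpa using isR_conj hj g⁻¹⟩
      show g • u ∈ (Fx j : AddSubgroup V)
      rw [show j = g * (g⁻¹ * j * g) * g⁻¹ by group]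
      exact fx_conj.2 (by rwa [inv_smul_smul])
    obtain ⟨u, hu, hu0⟩ := exists_nonzero_img (V := V) hh.1
    rcases hirr U hinv with e | e
    · refine hu0 (AddSubgroup.mem_bot.1 (e ▸ ?_))
      simp only [U, AddSubgroup.mem_iInf]
      rintro ⟨j, hj⟩
      rcases eq_or_ne h j with rfl | hne
      · rw [mem_Fx, neg_of_R hB hh hu, neg_eq_iff_add_eq_zero, h0]
      · exact img_le_fx hB hh hj hne (hcomm h j hh hj) hu
    · exact hh.1 (eq_one_of_fx (V := V) (eq_top_iff.2 (e ▸ iInf_le (fun j : {j : H // IsR V j} => (Fx j.1 : AddSubgroup V)) ⟨h, hh⟩)))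
  have h2 := ba.two.resolve_left h0
  have hinv : ¬ ∀ g : H, ∀ u ∈ (Img h : AddSubgroup V), g • u ∈ (Img h : AddSubgroup V) := fun hinv => by
    obtain ⟨u, hu, hu0⟩ := exists_nonzero_img (V := V) hh.1
    rcases hirr _ hinv with e | e
    · exact hu0 (AddSubgroup.mem_bot.1 (e ▸ hu))
    · refine hF (le_bot_iff.1 fun x hx => ?_)
      have h1 := mem_Fx.1 (hle hx)
      rw [neg_of_R hB hh (e ▸ AddSubgroup.mem_top x), neg_eq_iff_add_eq_zero] at h1
      exact AddSubgroup.mem_bot.2 (h2 x h1)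
  push Not at hinv
  obtain ⟨g, u, hu, hgu⟩ := hinv
  set h' := g * h * g⁻¹ with hh'def
  have hh' : IsR V h' := isR_conj hh g
  have hgu' : g • u ∈ (Img h' : AddSubgroup V) := img_conj hu
  have hne : h ≠ h' := fun e => hgu (by rw [← e] at hgu'; exact hgu')
  have hu' : (Img h : AddSubgroup V) ≤ Fx h' := img_le_fx hB hh hh' hne (hcomm h h' hh hh')
  have hg' : (Img h' : AddSubgroup V) ≤ Fx h := img_le_fx hB hh' hh hne.symm (hcomm h' h hh' hh)
  obtain ⟨y₁, hy₁, e₁⟩ := exists_pre_neg hB h2 hh (AddSubgroup.neg_mem _ hu)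
  obtain ⟨y₂, hy₂, e₂⟩ := exists_pre_neg hB h2 hh' hgu'
  set δ := g • u - u with hδ
  have he : (h * h') • (y₁ + y₂) - (y₁ + y₂) = δ := by
    rw [mul_smul, smul_add, mem_Fx.1 (hu' hy₁), smul_eq_add e₂, smul_add, smul_eq_add e₁, smul_add,
      mem_Fx.1 (hg' hy₂), mem_Fx.1 (hg' hgu'), hδ]
    abel
  set s := S hB δ
  have hs1 : s ≠ 1 := S_ne_one hB (fun e => hgu (by rw [sub_eq_zero] at e; rwa [e])) (g := g) (x := u) rfl
  have hw : g • u + u ∈ (Fx s : AddSubgroup V) := by
    rw [mem_Fx, smul_add, smul_eq_add (S_spec hB (g := g) (x := u) rfl)]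
    have h1 := (S_neg hB (g := g) (x := u) rfl).2
    rw [show u + (g • u - u) = g • u by abel] at h1 ⊢
    rw [h1, add_comm]
  obtain ⟨n, hn, hsn⟩ := exists_isR (V := V) hs1
  have hu0 : u ≠ 0 := fun e => hgu (by rw [e, smul_zero]; exact AddSubgroup.zero_mem _)
  have hnh : n ≠ h := fun e => hu0 (h2 u (by
    subst e
    have := mem_Fx.1 (hsn hw)
    rw [smul_add, mem_Fx.1 (hg' hgu'), neg_of_R hB hn hu, add_right_inj, neg_eq_iff_add_eq_zero] at this
    exact this))
  have hgu0 : g • u ≠ 0 := fun e => hu0 ((smul_eq_zero_iff_eq g).1 e)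
  have hnh' : n ≠ h' := fun e => hgu0 (h2 _ (by
    subst e
    have := mem_Fx.1 (hsn hw)
    rw [smul_add, mem_Fx.1 (hu' hu), neg_of_R hB hn hgu', add_left_inj, neg_eq_iff_add_eq_zero] at this
    exact this))
  refine hn.1 (eq_one_of_fx (V := V) (eq_top_iff.2 fun x _ => ?_))
  obtain ⟨a, ha, ea⟩ := exists_pre_neg hB h2 hh (sub_mem_Img h x)
  obtain ⟨b, hb, eb⟩ := exists_pre_neg hB h2 hh' (sub_mem_Img h' (x - a))
  have h5 : x - a - b ∈ (Fx h : AddSubgroup V) := by
    rw [mem_Fx, smul_sub, smul_sub, smul_eq_add ea, mem_Fx.1 (hg' hb)]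
    abel
  have h6 : x - a - b ∈ (Fx h' : AddSubgroup V) := by
    rw [mem_Fx, smul_sub, smul_eq_add eb]
    abel
  have h7 : x - a - b ∈ (Fx n : AddSubgroup V) := hsn (S_fix hB he (fx_mul h5 h6))
  rw [show x = (x - a - b) + a + b by abel]
  exact AddSubgroup.add_mem _ (AddSubgroup.add_mem _ h7
    (img_le_fx hB hh hn hnh.symm (hcomm h n hh hn) ha))
    (img_le_fx hB hh' hn hnh'.symm (hcomm h' n hh' hn) hb)

section

variable {h k : H} (C : Pair h k V)
include C

theorem Pair.inv_or (g : H) :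
    (∀ p ∈ P V h k, g • p ∈ P V h k) ∨ (∀ p ∈ P V h k, g • p ∈ M V h k) := by
  have := Fintype.ofFinite H
  have hB := C.ba.bin
  set h₁ := g * h * g⁻¹ with hh₁
  set k₁ := g * k * g⁻¹ with hk₁
  have hnc : k₁ * h₁ ≠ h₁ * k₁ := fun e => C.nc (by
    have := congrArg (fun x => g⁻¹ * x * g) e
    simp only [hh₁, hk₁] at this
    group at this ⊢
    exact this)
  have hin : ∀ j : H, IsR V j → (Img j : AddSubgroup V) ≤ P V h k → InN V h k j := fun j hj hjP => by
    obtain ⟨u, hu, hu0⟩ := exists_nonzero_img (V := V) hj.1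
    obtain ⟨n, hn, hun⟩ := C.cover (hjP hu) hu0
    rwa [R_unique hB hj hn.1 hu0 hu hun]
  have hdich : ∀ a b : H, IsR V a → IsR V b → b * a ≠ a * b →
      (Img a : AddSubgroup V) ≤ P V h k → (Img b : AddSubgroup V) ≤ P V h k := fun a b ha hb hab haP => by
    by_contra hbP
    exact hab (C.comm_outside hb hbP (hin a ha haP))
  have hout : ∀ j : H, IsR V j → ¬ (Img j : AddSubgroup V) ≤ P V h k →
      (Img j : AddSubgroup V) ≤ M V h k := fun j hj hjP => by
    refine le_inf ?_ ?_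
    · exact img_le_fx hB hj C.hh (fun e => hjP (e ▸ le_sup_left)) (C.comm_outside hj hjP C.inN_left).symm
    · exact img_le_fx hB hj C.hk (fun e => hjP (e ▸ le_sup_right)) (C.comm_outside hj hjP C.inN_right).symm
  have hmain : ∀ U : AddSubgroup V, (Img h₁ : AddSubgroup V) ≤ U → (Img k₁ : AddSubgroup V) ≤ U →
      ∀ p ∈ P V h k, g • p ∈ U := fun U hU hU' p hp => by
    obtain ⟨a, ha, b, hb, rfl⟩ := AddSubgroup.mem_sup.1 hp
    rw [smul_add]
    exact AddSubgroup.add_mem _ (hU (img_conj ha)) (hU' (img_conj hb))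
  have hR₁ : IsR V h₁ := isR_conj C.hh g
  have hR₂ : IsR V k₁ := isR_conj C.hk g
  by_cases hP₁ : (Img h₁ : AddSubgroup V) ≤ P V h k
  · exact Or.inl (hmain _ hP₁ (hdich h₁ k₁ hR₁ hR₂ hnc hP₁))
  · refine Or.inr (hmain _ (hout _ hR₁ hP₁) (hout _ hR₂ fun e => hP₁ (hdich k₁ h₁ hR₂ hR₁ hnc.symm e)))

theorem Pair.P_invariant (g : H) : ∀ p ∈ P V h k, g • p ∈ P V h k := by
  have := Fintype.ofFinite H
  have hB := C.ba.bin
  refine (C.inv_or g).resolve_right fun hM => ?_
  set h₁ := g * h * g⁻¹ with hh₁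
  have hR₁ : IsR V h₁ := isR_conj C.hh g
  have h₁M : (Img h₁ : AddSubgroup V) ≤ M V h k := fun x hx => by
    have h3 := img_conj (g := g⁻¹) hx
    rw [show g⁻¹ * h₁ * g⁻¹⁻¹ = h by rw [hh₁]; group] at h3
    have := hM _ (AddSubgroup.mem_sup_left h3)
    rwa [smul_inv_smul] at this
  obtain ⟨u, hu, hu0⟩ := exists_nonzero_img (V := V) C.hh.1
  have hguM := hM u (AddSubgroup.mem_sup_left hu)
  have hgu : g • u ∈ (Img h₁ : AddSubgroup V) := img_conj hu
  have h₁P : P V h k ≤ Fx h₁ := by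
    have hne : ∀ j : H, InN V h k j → (Img j : AddSubgroup V) ≤ Fx h₁ := fun j hj => by
      obtain ⟨v, hv, hv0⟩ := exists_nonzero_img (V := V) hR₁.1
      have hjh : j ≠ h₁ := fun e => hv0 (by
        subst e
        have : v ∈ (Img h₁ : AddSubgroup V) ⊓ M V h k := ⟨hv, h₁M hv⟩
        rwa [C.img_M hj, AddSubgroup.mem_bot] at this)
      exact img_le_fx hB hj.1 hR₁ hjh
        (comm_of_fixed hB hR₁ hv hv0 (mem_Fx.1 (hj.2 (h₁M hv)))).symm
    exact sup_le (hne h C.inN_left) (hne k C.inN_right)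
  obtain ⟨y₁, hy₁P, hy₁⟩ : ∃ y ∈ P V h k, h • y - y = -u := by
    obtain ⟨y, hy⟩ := mem_Img.1 (AddSubgroup.neg_mem _ hu)
    obtain ⟨m, hm, p, hp, rfl⟩ := C.decomp y
    refine ⟨p, hp, ?_⟩
    rw [smul_add, mem_Fx.1 hm.1] at hy
    rw [← hy]; abel
  obtain ⟨y₂, hy₂M, hy₂⟩ : ∃ y ∈ M V h k, h₁ • y - y = g • u := by
    obtain ⟨y, hy⟩ := mem_Img.1 hgu
    obtain ⟨m, hm, p, hp, rfl⟩ := C.decomp y
    refine ⟨m, hm, ?_⟩
    rw [smul_add, mem_Fx.1 (h₁P hp)] at hy
    rw [← hy]; abel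
  set δ := g • u - u with hδ
  have he : (h * h₁) • (y₁ + y₂) - (y₁ + y₂) = δ := by
    rw [mul_smul, smul_add, mem_Fx.1 (h₁P hy₁P), smul_eq_add hy₂, smul_add, smul_eq_add hy₁, smul_add,
      mem_Fx.1 hy₂M.1, mem_Fx.1 hguM.1, hδ]
    abel
  set s := S hB δ
  have h2 := C.two_le_card
  rw [← C.card_meet C.inN_left] at h2
  have : Nontrivial ↥((Fx h : AddSubgroup V) ⊓ P V h k) := Finite.one_lt_card_iff_nontrivial.1 (by omega)
  obtain ⟨⟨w, hwh, hwP⟩, hw0⟩ := exists_ne (0 : ↥((Fx h : AddSubgroup V) ⊓ P V h k))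
  have hw0' : w ≠ 0 := fun e => hw0 (Subtype.ext e)
  have hsw : s • w = w := mem_Fx.1 (S_fix hB he (fx_mul hwh (h₁P hwP)))
  rcases C.inv_or s with hs | hs
  · have h3 := hs u (AddSubgroup.mem_sup_left hu)
    have h4 : s • u = g • u := sub_left_inj.1 (S_spec hB (g := g) (x := u) rfl)
    rw [h4] at h3
    have : g • u ∈ M V h k ⊓ P V h k := ⟨hguM, h3⟩
    rw [C.M_P, AddSubgroup.mem_bot] at this
    exact hu0 ((smul_eq_zero_iff_eq g).1 this)
  · have h3 := hs w hwP
    rw [hsw] at h3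
    exact C.not_M hwP hw0' h3

theorem Pair.P_eq_top (hirr : Irr H V) : P V h k = ⊤ := by
  refine (hirr _ C.P_invariant).resolve_left fun e => ?_
  obtain ⟨u, hu, hu0⟩ := exists_nonzero_img (V := V) C.hh.1
  exact hu0 (AddSubgroup.mem_bot.1 (e ▸ AddSubgroup.mem_sup_left hu))

end

/-- The conclusion about two non-commuting maximal elements when their differences fill `V`. -/
structure Dih (h k : H) (V : Type*) [AddCommGroup V] [DistribMulAction H V] : Prop where
  C : Pair h k V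
  top : P V h k = ⊤

/-- No fixed points, or the identity. -/
def InT (V : Type*) [AddCommGroup V] [DistribMulAction H V] (t : H) : Prop :=
  t = 1 ∨ ∀ x : V, t • x = x → x = 0

section

variable {h k : H} (D : Dih h k V)
include D

theorem Dih.M_bot : M V h k = ⊥ := by
  have := D.C.M_P
  rwa [D.top, inf_top_eq] at this

theorem Dih.not_M {x : V} (hx : x ≠ 0) : x ∉ M V h k := fun hm => hx (by rwa [D.M_bot] at hm)

theorem Dih.inN {n : H} (hn : IsR V n) : InN V h k n := ⟨hn, D.M_bot ▸ bot_le⟩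

theorem Dih.exists_fix {x : V} (hx : x ≠ 0) : ∃ n : H, IsR V n ∧ n • x = x := by
  have := Fintype.ofFinite H
  obtain ⟨n, hn, hnx⟩ := D.C.members.2.1 x (D.not_M hx)
  exact ⟨n, hn.1, mem_Fx.1 hnx⟩

theorem Dih.fix_unique {n n' : H} (hn : IsR V n) (hn' : IsR V n') {x : V} (hx : x ≠ 0) (h1 : n • x = x)
    (h2 : n' • x = x) : n = n' :=
  D.C.fix_unique (D.inN hn) (D.inN hn') (D.not_M hx) (mem_Fx.2 h1) (mem_Fx.2 h2)

theorem Dih.exists_move {e : H} {x : V} (hex : e • x ≠ x) : ∃ n : H, IsR V n ∧ n • x = e • x := by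
  have hB := D.C.ba.bin
  obtain ⟨n, hn, hnd⟩ := D.C.cover (δ := e • x - x) (by rw [D.top]; exact AddSubgroup.mem_top _)
    (sub_ne_zero.2 hex)
  refine ⟨n, hn.1, ?_⟩
  obtain ⟨y, hy⟩ := mem_Img.1 hnd
  have h1 := S_spec hB (g := e) (x := x) rfl
  rw [S_of_R hB hn.1 (sub_ne_zero.2 hex) hy] at h1
  exact sub_left_inj.1 h1

/-- The stabiliser of a non-zero point. -/
theorem Dih.stab {e : H} (he : e ≠ 1) {x : V} (hx : x ≠ 0) (hex : e • x = x) : IsR V e := by
  have hB := D.C.ba.bin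
  obtain ⟨n, hn, hle⟩ := exists_isR (V := V) he
  have hnx : n • x = x := mem_Fx.1 (hle (mem_Fx.2 hex))
  have hen : e * n * e⁻¹ = n := D.fix_unique (isR_conj hn e) hn hx (by
    rw [mul_smul, mul_smul, inv_smul_eq_iff.2 hex.symm, hnx, hex]) hnx
  have hA : ∀ a ∈ (Fx n : AddSubgroup V), e • a ∈ (Fx n : AddSubgroup V) := fun a ha => by
    rw [← hen]
    exact fx_conj.2 (by rwa [inv_smul_smul])
  have hge : (Fx n : AddSubgroup V) ≤ Fx e := fun a ha => by
    rw [mem_Fx]
    by_contra hne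
    obtain ⟨n', hn', hn'a⟩ := D.exists_move hne
    have hd : e • a - a ∈ (Fx n : AddSubgroup V) := AddSubgroup.sub_mem _ (hA a ha) ha
    have hd' : e • a - a ∈ (Img n' : AddSubgroup V) := hn'a ▸ sub_mem_Img n' a
    have hd0 : e • a - a ≠ 0 := sub_ne_zero.2 hne
    by_cases h0 : ∀ y : V, y + y = 0
    · have : n' = n := D.fix_unique hn' hn hd0
        (mem_Fx.1 (D.C.img_le_fx_two h0 (D.inN hn') hd')) (mem_Fx.1 hd)
      rw [this, mem_Fx.1 ha] at hn'a
      exact hne hn'a.symm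
    have hnn : n' ≠ n := fun e' => hd0 (D.C.two_img h0 hn' hd' (e' ▸ mem_Fx.1 hd))
    have hAeq : (Img n' : AddSubgroup V) = Fx n := by
      refine eq_of_le_of_card (img_le_fx hB hn' hn hnn (comm_of_fixed hB hn' hd' hd0 (mem_Fx.1 hd))) ?_
      rw [D.C.card_fx_inN (D.inN hn), D.C.card_img_inN (D.inN hn'), D.M_bot]
      simp
    have hneg : ∀ v ∈ (Fx n : AddSubgroup V), e • v = v ∨ e • v = -v := fun v hv => by
      have hv' : v ∈ (Img n' : AddSubgroup V) := hAeq ▸ hv
      refine (move_R hB hn' e ?_).imp_right fun h1 => by rw [h1, neg_of_R hB hn' hv']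
      rw [hAeq]
      exact AddSubgroup.sub_mem _ (hA v hv) hv
    have h2 := D.C.ba.two.resolve_left h0
    have ha' := (hneg a ha).resolve_left hne
    rcases hneg (x + a) (AddSubgroup.add_mem _ (mem_Fx.2 hnx) ha) with h1 | h1 <;>
      rw [smul_add, hex, ha'] at h1
    · rw [add_right_inj, neg_eq_iff_add_eq_zero] at h1
      exact hne (by rw [h2 a h1, smul_zero])
    · rw [neg_add, add_left_inj, eq_neg_iff_add_eq_zero] at h1
      exact hx (h2 x h1)
  exact ⟨he, fun j hj hle' => le_antisymm ((hn.2 j hj (hge.trans hle')).le.trans hge) hle'⟩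

omit D in
theorem exists_nonzero_fx {h k n : H} (D : Dih h k V) (hn : IsR V n) : ∃ x : V, x ≠ 0 ∧ n • x = x := by
  have h2 := D.C.two_le_card
  have h1 := D.C.card_fx_inN (D.inN hn)
  have h3 : 1 ≤ Nat.card (M V h k) := Nat.card_pos
  have : Nontrivial (Fx n : AddSubgroup V) := Finite.one_lt_card_iff_nontrivial.1 (by
    rw [h1]
    calc 1 < 1 * Nat.card (Img h : AddSubgroup V) := by omega
      _ ≤ _ := Nat.mul_le_mul_right _ h3)
  obtain ⟨⟨x, hx⟩, hx0⟩ := exists_ne (0 : (Fx n : AddSubgroup V))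
  exact ⟨x, fun e => hx0 (Subtype.ext e), mem_Fx.1 hx⟩

theorem Dih.not_T {n : H} (hn : IsR V n) : ¬ InT V n := by
  obtain ⟨x, hx, hnx⟩ := exists_nonzero_fx D hn
  rintro (e | e)
  · exact hn.1 e
  · exact hx (e x hnx)

theorem Dih.mul_T {n n' : H} (hn : IsR V n) (hn' : IsR V n') : InT V (n * n') := by
  rcases eq_or_ne n n' with rfl | hne
  · exact Or.inl (sq_of_R D.C.ba.bin hn)
  refine Or.inr fun x hx => ?_
  by_contra hx0
  have hB := D.C.ba.bin
  have h1 : n' • x = n • x := by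
    conv_rhs => rw [← hx]
    rw [← mul_smul, ← mul_assoc, sq_of_R hB hn, one_mul]
  rcases eq_or_ne (n • x - x) 0 with h0 | h0
  · exact hne (D.fix_unique hn hn' hx0 (sub_eq_zero.1 h0) (h1.trans (sub_eq_zero.1 h0)))
  · exact hne (R_unique hB hn hn' h0 (sub_mem_Img n x) (h1 ▸ sub_mem_Img n' x))

theorem Dih.decomp (n₀ : H) (hn₀ : IsR V n₀) (e : H) :
    IsR V e ∨ ∃ n, IsR V n ∧ e = n * n₀ := by
  obtain ⟨x, hx, hnx⟩ := exists_nonzero_fx D hn₀
  have hst : ∀ s : H, s • x = x → s = 1 ∨ s = n₀ := fun s hs => by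
    rcases eq_or_ne s 1 with e | e
    · exact Or.inl e
    · exact Or.inr (D.fix_unique (D.stab e hx hs) hn₀ hx hs hnx)
  by_cases hex : e • x = x
  · rcases hst e hex with rfl | rfl
    · exact Or.inr ⟨n₀, hn₀, (sq_of_R D.C.ba.bin hn₀).symm⟩
    · exact Or.inl hn₀
  · obtain ⟨n, hn, hne⟩ := D.exists_move hex
    rcases hst (n⁻¹ * e) (by rw [mul_smul, inv_smul_eq_iff, hne]) with h1 | h1
    · rw [inv_mul_eq_one] at h1
      exact Or.inl (h1 ▸ hn)
    · exact Or.inr ⟨n, hn, by rw [← h1, mul_inv_cancel_left]⟩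

theorem Dih.conj_T {n t : H} (hn : IsR V n) (ht : InT V t) : n * t * n = t⁻¹ := by
  rcases D.decomp n hn t with h1 | ⟨n', hn', rfl⟩
  · exact absurd ht (D.not_T h1)
  · have hB := D.C.ba.bin
    rw [mul_inv_rev, inv_of_R hB hn, inv_of_R hB hn', mul_assoc, mul_assoc, sq_of_R hB hn, mul_one]

theorem Dih.comm_T {t s : H} (ht : InT V t) (hs : InT V s) : Commute t s := by
  rcases D.decomp h D.C.hh t with h1 | ⟨n, hn, rfl⟩
  · exact absurd ht (D.not_T h1)
  have hB := D.C.ba.bin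
  have e1 : h * s = s⁻¹ * h := by
    rw [← D.conj_T D.C.hh hs, mul_assoc, sq_of_R hB D.C.hh, mul_one]
  have e2 : n * s⁻¹ = s * n := by
    have := D.conj_T hn hs
    rw [← this, ← mul_assoc, ← mul_assoc, sq_of_R hB hn, one_mul]
  show n * h * s = s * (n * h)
  rw [mul_assoc, e1, ← mul_assoc, e2, mul_assoc]

theorem Dih.inv_T {t : H} (ht : InT V t) : InT V t⁻¹ := by
  rcases ht with rfl | ht
  · exact Or.inl inv_one
  · exact Or.inr fun x hx => ht x (inv_smul_eq_iff.1 hx).symm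

theorem Dih.neg_T {t : H} (ht : InT V t) (h2 : t * t = 1) : t = 1 ∨ ∀ x : V, t • x = -x := by
  rcases ht with e | ht
  · exact Or.inl e
  · refine Or.inr fun x => eq_neg_of_add_eq_zero_left (ht _ ?_)
    rw [smul_add, ← mul_smul, h2, one_smul, add_comm]

theorem Dih.mul_mem_T {t s : H} (ht : InT V t) (hs : InT V s) : InT V (t * s) := by
  rcases D.decomp h D.C.hh (t * s) with hR | ⟨n, hn, e⟩
  swap
  · exact e ▸ D.mul_T hn D.C.hh
  have hB := D.C.ba.bin
  have key : ∀ r : H, InT V r → Commute (t * s) r → r * r = 1 := fun r hr hc => by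
    have h1 := D.conj_T hR hr
    rw [hc.eq, mul_assoc, sq_of_R hB hR, mul_one] at h1
    exact mul_eq_one_iff_eq_inv.2 h1
  have ct : Commute (t * s) t := (Commute.refl t).mul_left (D.comm_T hs ht)
  have cs : Commute (t * s) s := (D.comm_T ht hs).mul_left (Commute.refl s)
  rcases D.neg_T ht (key t ht ct) with rfl | h1
  · rwa [one_mul]
  rcases D.neg_T hs (key s hs cs) with rfl | h2
  · rwa [mul_one]
  refine Or.inl (FaithfulSMul.eq_of_smul_eq_smul (α := V) fun x => ?_)
  rw [mul_smul, h2, h1, neg_neg, one_smul]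

theorem Dih.card_V :
    Nat.card V = Nat.card (Img h : AddSubgroup V) * Nat.card (Img h : AddSubgroup V) := by
  rw [← D.C.card_P, D.top, AddSubgroup.card_top]

theorem Dih.card_fix {n : H} (hn : IsR V n) :
    Nat.card (Fx n : AddSubgroup V) = Nat.card (Img h : AddSubgroup V) := by
  rw [D.C.card_fx_inN (D.inN hn), D.M_bot]
  simp

open Classical in
theorem Dih.card_T [Fintype H] :
    (Finset.univ.filter fun t : H => InT V t).card = Nat.card (Img h : AddSubgroup V) + 1 := by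
  rw [← D.C.members.2.2]
  refine Finset.card_bij' (fun t _ => t * h) (fun n _ => n * h) ?_ ?_ ?_ ?_
  · intro t ht
    simp only [Finset.mem_filter, Finset.mem_univ, true_and] at ht ⊢
    rcases D.decomp h D.C.hh t with h1 | ⟨n, hn, rfl⟩
    · exact absurd ht (D.not_T h1)
    · rw [mul_assoc, sq_of_R D.C.ba.bin D.C.hh, mul_one]
      exact D.inN hn
  · intro n hn
    simp only [Finset.mem_filter, Finset.mem_univ, true_and] at hn ⊢
    exact D.mul_T hn.1 D.C.hh
  · intro t _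
    rw [mul_assoc, sq_of_R D.C.ba.bin D.C.hh, mul_one]
  · intro n _
    rw [mul_assoc, sq_of_R D.C.ba.bin D.C.hh, mul_one]

end

end CfsgLib.BinaryAffine
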