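/-
The dihedral case: the rotations generate a field with `Q * Q` elements acting regularly on `V`, and the
group consists of the maps `x ↦ a * φ x` with `a` of norm one over the subfield of order `Q`.
-/
import Cfsg.Agent.Lib.Perm.BinaryAffine.Group

set_option autoImplicit false
set_option linter.unusedSectionVars false

namespace CfsgLib.BinaryAffine

variable {H V : Type*} [Group H] [AddCommGroup V] [DistribMulAction H V]
variable [FaithfulSMul H V] [Finite V] [Finite H] {h k : H}

section

variable (D : Dih h k V)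
include D

/-- The rotations. -/
def Dih.rot : Subgroup H where
  carrier := {t | InT V t}
  mul_mem' := D.mul_mem_T
  one_mem' := Or.inl rfl
  inv_mem' := D.inv_T

theorem Dih.mem_rot {t : H} : t ∈ D.rot ↔ InT V t := Iff.rfl

theorem Dih.card_rot : Nat.card D.rot = Nat.card (Img h : AddSubgroup V) + 1 := by
  classical
  have := Fintype.ofFinite H
  rw [← D.card_T]
  exact Nat.subtype_card _ (fun x => by simp [Dih.mem_rot])

theorem Dih.rot_injective {x : V} (hx : x ≠ 0) : Function.Injective (fun t : D.rot => (t : H) • x) :=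
  fun t s e => by
    have h1 : InT V ((s : H)⁻¹ * t) := D.mul_mem_T (D.inv_T s.2) t.2
    rcases h1 with h1 | h1
    · exact Subtype.ext (inv_mul_eq_one.1 h1).symm
    · exact absurd (h1 x (by rw [mul_smul, inv_smul_eq_iff]; exact e)) hx

/-- The rotations are irreducible. -/
theorem Dih.rot_irr (U : AddSubgroup V) (hU : ∀ t : H, InT V t → ∀ u ∈ U, t • u ∈ U) :
    U = ⊥ ∨ U = ⊤ := by
  classical
  by_contra hcon
  push Not at hcon
  obtain ⟨hb, ht⟩ := hcon
  obtain ⟨x, hxU, hx⟩ : ∃ x ∈ U, x ≠ 0 := by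
    by_contra h'
    push Not at h'
    exact hb ((AddSubgroup.eq_bot_iff_forall _).2 h')
  obtain ⟨y, hy⟩ : ∃ y, y ∉ U := by
    by_contra h'
    push Not at h'
    exact ht ((AddSubgroup.eq_top_iff' _).2 h')
  have hinv : ∀ t : H, InT V t → ∀ u, t • u ∈ U → u ∈ U := fun t ht u hu => by
    simpa using hU t⁻¹ (D.inv_T ht) _ hu
  have h1 : Nat.card (Option D.rot) ≤ Nat.card U := by
    refine Nat.card_le_card_of_injective
      (fun o => o.elim (0 : U) fun t => ⟨(t : H) • x, hU _ t.2 _ hxU⟩) ?_
    rintro (_ | t) (_ | s) e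
    · rfl
    · exact absurd ((smul_eq_zero_iff_eq _).1 (congrArg Subtype.val e).symm) hx
    · exact absurd ((smul_eq_zero_iff_eq _).1 (congrArg Subtype.val e)) hx
    · exact congrArg some (D.rot_injective hx (congrArg Subtype.val e))
  have h2 : Nat.card (Option D.rot) ≤ Nat.card (V ⧸ U) := by
    refine Nat.card_le_card_of_injective
      (fun o => o.elim (0 : V ⧸ U) fun t => QuotientAddGroup.mk ((t : H) • y)) ?_
    rintro (_ | t) (_ | s) e
    · rfl
    · exact absurd (hinv _ s.2 _ ((QuotientAddGroup.eq_zero_iff _).1 e.symm)) hy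
    · exact absurd (hinv _ t.2 _ ((QuotientAddGroup.eq_zero_iff _).1 e)) hy
    · simp only [Option.elim_some, QuotientAddGroup.eq] at e
      rw [neg_add_eq_sub] at e
      -- the difference of two points of the orbit lies in the subgroup
      have hd : ((t : H)⁻¹ * s) • y - y ∈ U := by
        have := hU _ (D.inv_T t.2) _ e
        rwa [smul_sub, ← mul_smul, inv_smul_smul] at this
      rcases eq_or_ne s t with rfl | hne
      · rfl
      exfalso
      have hr : InT V ((t : H)⁻¹ * s) := D.mul_mem_T (D.inv_T t.2) s.2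
      rcases hr with h1 | h1
      · exact hne (Subtype.ext (inv_mul_eq_one.1 h1).symm)
      set r := (t : H)⁻¹ * s with hrdef
      have hsur : Function.Surjective
          (fun u : U => (⟨r • (u : V) - u,
            U.sub_mem (hU r (D.mul_mem_T (D.inv_T t.2) s.2) _ u.2) u.2⟩ : U)) := by
        refine Finite.surjective_of_injective fun a b e' => Subtype.ext (sub_eq_zero.1 (h1 _ ?_))
        have e'' : r • (a : V) - a = r • (b : V) - b := congrArg Subtype.val e'
        rw [smul_sub]
        exact sub_eq_sub_iff_sub_eq_sub.1 e''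
      obtain ⟨u, hu⟩ := hsur ⟨_, hd⟩
      have hu' : r • (u : V) - u = r • y - y := congrArg Subtype.val hu
      have := sub_eq_zero.1 (h1 (y - u) (by rw [smul_sub]; exact sub_eq_sub_iff_sub_eq_sub.1 hu'.symm))
      exact hy (this ▸ u.2)
  rw [Finite.card_option, D.card_rot] at h1 h2
  have h3 := AddSubgroup.card_eq_card_quotient_mul_card_addSubgroup U
  rw [D.card_V] at h3
  have := Nat.mul_le_mul h2 h1
  nlinarith

/-- A field structure in which the rotations are multiplications and `h` is an automorphism. -/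
theorem Dih.exists_mul {x₀ : V} (hx₀ : x₀ ≠ 0) (hfix : h • x₀ = x₀) :
    ∃ (E : Type) (_ : Field E) (_ : Fintype E) (ψ : V ≃+ E) (σ : E ≃+* E),
      (∀ t : H, InT V t → ∀ x : V, ψ (t • x) = ψ (t • x₀) * ψ x) ∧
      (∀ x : V, ψ (h • x) = σ (ψ x)) ∧ ψ x₀ = 1 := by
  classical
  have hB := D.C.ba.bin
  set τ := DistribMulAction.toAddMonoidEnd H V with hτ
  have hτa : ∀ (g : H) (x : V), τ g x = g • x := fun g x => rfl
  set S : Set (AddMonoid.End V) := τ '' {t | InT V t} with hS
  have hc : ∀ a ∈ S, ∀ b ∈ S, a * b = b * a := by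
    rintro _ ⟨t, ht, rfl⟩ _ ⟨s, hs, rfl⟩
    rw [← map_mul, ← map_mul, (D.comm_T ht hs).eq]
  set A := Subring.closure S with hA
  have hmemT : ∀ t : H, InT V t → τ t ∈ A := fun t ht => Subring.subset_closure ⟨t, ht, rfl⟩
  letI : CommRing A := Subring.closureCommRingOfComm hc
  have hker : ∀ a : A, a ≠ 0 → ∀ x : V, (a : AddMonoid.End V) x = 0 → x = 0 := by
    intro a ha x hx
    let K : AddSubgroup V := AddMonoidHom.ker (a : AddMonoid.End V)
    rcases D.rot_irr K (fun t ht u hu => by
      have hc' := congrArg Subtype.val (mul_comm a ⟨τ t, hmemT t ht⟩)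
      have := DFunLike.congr_fun hc' u
      show (a : AddMonoid.End V) (t • u) = 0
      refine Eq.trans this ?_
      show t • (a : AddMonoid.End V) u = 0
      rw [show (a : AddMonoid.End V) u = 0 from hu, smul_zero]) with e | e
    · exact AddSubgroup.mem_bot.1 (e ▸ (hx : x ∈ K))
    · refine absurd ?_ ha
      exact Subtype.ext (AddMonoidHom.ext fun y =>
        (show (y : V) ∈ K by rw [e]; exact AddSubgroup.mem_top y))
  have : Nontrivial V := ⟨⟨x₀, 0, hx₀⟩⟩
  have : Finite A := Finite.of_injective (fun a : A => ((a : AddMonoid.End V) : V → V))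
    fun a b e => Subtype.ext (AddMonoidHom.ext (congrFun e))
  have : Nontrivial A := ⟨⟨1, 0, fun e => hx₀ (by
    have := DFunLike.congr_fun (congrArg Subtype.val e) x₀
    exact this)⟩⟩
  have : NoZeroDivisors A := ⟨fun {a b} e => or_iff_not_imp_left.2 fun ha =>
    Subtype.ext (AddMonoidHom.ext fun x => hker a ha _ (DFunLike.congr_fun (congrArg Subtype.val e) x))⟩
  have : IsDomain A := NoZeroDivisors.to_isDomain A
  let ev : A →+ V :=
    { toFun := fun a => (a : AddMonoid.End V) x₀
      map_zero' := rfl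
      map_add' := fun a b => rfl }
  have hev : Function.Bijective ev := by
    refine ⟨(injective_iff_map_eq_zero ev).2 fun a ha => ?_, ?_⟩
    · by_contra h0
      exact hx₀ (hker a h0 x₀ ha)
    · refine AddMonoidHom.range_eq_top.1 ((D.rot_irr ev.range ?_).resolve_left fun e => ?_)
      · rintro t ht _ ⟨a, rfl⟩
        exact ⟨⟨τ t, hmemT t ht⟩ * a, rfl⟩
      · exact hx₀ (AddSubgroup.mem_bot.1 (e ▸ (⟨1, rfl⟩ : x₀ ∈ ev.range)))
  set e0 : A ≃+ V := AddEquiv.ofBijective ev hev with he0
  have he0a : ∀ a : A, e0 a = (a : AddMonoid.End V) x₀ := fun a => rfl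
  have hh2 : τ h * τ h = 1 := by rw [← map_mul, sq_of_R hB D.C.hh, map_one]
  have hconj : ∀ a ∈ A, τ h * a * τ h ∈ A := by
    intro a ha
    induction ha using Subring.closure_induction with
    | mem x hx =>
      obtain ⟨t, ht, rfl⟩ := hx
      rw [← map_mul, ← map_mul, D.conj_T D.C.hh ht]
      exact hmemT _ (D.inv_T ht)
    | zero => rw [mul_zero, zero_mul]; exact A.zero_mem
    | one => rw [mul_one, hh2]; exact A.one_mem
    | add x y _ _ hx hy => rw [mul_add, add_mul]; exact A.add_mem hx hy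
    | neg x _ hx => rw [mul_neg, neg_mul]; exact A.neg_mem hx
    | mul x y _ _ hx hy =>
      rw [show τ h * (x * y) * τ h = τ h * x * τ h * (τ h * y * τ h) by
        simp only [mul_assoc]; rw [← mul_assoc (τ h) (τ h), hh2, one_mul]]
      exact A.mul_mem hx hy
  let σ₀ : A ≃+* A :=
    { toFun := fun a => ⟨_, hconj a a.2⟩
      invFun := fun a => ⟨_, hconj a a.2⟩
      left_inv := fun a => Subtype.ext (by
        show τ h * (τ h * a * τ h) * τ h = a
        simp only [mul_assoc]
        rw [hh2, mul_one, ← mul_assoc, hh2, one_mul])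
      right_inv := fun a => Subtype.ext (by
        show τ h * (τ h * a * τ h) * τ h = a
        simp only [mul_assoc]
        rw [hh2, mul_one, ← mul_assoc, hh2, one_mul])
      map_mul' := fun a b => Subtype.ext (by
        show τ h * (a * b) * τ h = τ h * a * τ h * (τ h * b * τ h)
        simp only [mul_assoc]
        rw [← mul_assoc (τ h) (τ h), hh2, one_mul])
      map_add' := fun a b => Subtype.ext (by
        show τ h * (a + b) * τ h = τ h * a * τ h + τ h * b * τ h
        rw [mul_add, add_mul]) }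
  let r : Shrink.{0} A ≃+* A := Shrink.ringEquiv.{0} A
  have : IsDomain (Shrink.{0} A) := MulEquiv.isDomain A r.toMulEquiv
  have hE : IsField (Shrink.{0} A) := Finite.isDomain_to_isField _
  refine ⟨Shrink.{0} A, hE.toField, Fintype.ofFinite _, e0.symm.trans r.symm.toAddEquiv,
    r.trans (σ₀.trans r.symm), ?_, ?_, ?_⟩
  · intro t ht x
    show r.symm (e0.symm (t • x)) = r.symm (e0.symm (t • x₀)) * r.symm (e0.symm x)
    rw [← map_mul]
    congr 1
    have h1 : e0.symm (t • x₀) = ⟨τ t, hmemT t ht⟩ := e0.symm_apply_eq.2 rfl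
    rw [h1, e0.symm_apply_eq, he0a]
    show t • x = t • ((e0.symm x : A) : AddMonoid.End V) x₀
    rw [← he0a, e0.apply_symm_apply]
  · intro x
    show r.symm (e0.symm (h • x)) = r.symm (σ₀ (r (r.symm (e0.symm x))))
    rw [r.apply_symm_apply]
    congr 1
    rw [e0.symm_apply_eq, he0a]
    show h • x = h • ((e0.symm x : A) : AddMonoid.End V) (h • x₀)
    rw [hfix, ← he0a, e0.apply_symm_apply]
  · show r.symm (e0.symm x₀) = 1
    rw [show e0.symm x₀ = 1 from e0.symm_apply_eq.2 rfl, map_one]

/-- The dihedral case in field language. -/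
theorem Dih.exists_field :
    ∃ (F E : Type) (_ : Field F) (_ : Fintype F) (_ : Field E) (_ : Fintype E) (_ : Algebra F E)
      (ψ : V ≃+ E), Module.finrank F E = 2 ∧ ∀ f : V → V, (∃ g : H, ∀ x, g • x = f x) ↔
        ∃ (a : E) (φ : E ≃ₐ[F] E), Algebra.norm F a = 1 ∧ ∀ x, ψ (f x) = a * φ (ψ x) := by
  classical
  have hB := D.C.ba.bin
  obtain ⟨x₀, hx₀, hfix⟩ := exists_nonzero_fx D D.C.hh
  obtain ⟨E, _, _, ψ, σ, hT, hσ, hone⟩ := D.exists_mul hx₀ hfix
  set μ : H → E := fun t => ψ (t • x₀) with hμ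
  have hQ := D.C.two_le_card
  have hσσ : ∀ b : E, σ (σ b) = b := fun b => by
    obtain ⟨x, rfl⟩ := ψ.surjective b
    rw [← hσ, ← hσ, ← mul_smul, sq_of_R hB D.C.hh, one_smul]
  have hσμ : ∀ t : H, InT V t → σ (μ t) = μ t⁻¹ := fun t ht => by
    show σ (ψ (t • x₀)) = ψ (t⁻¹ • x₀)
    rw [← hσ, ← D.conj_T D.C.hh ht, mul_smul, mul_smul, hfix]
  have hμone : ∀ t : H, InT V t → μ t * σ (μ t) = 1 := fun t ht => by
    rw [hσμ t ht]
    show ψ (t • x₀) * ψ (t⁻¹ • x₀) = 1
    rw [← hT t ht, smul_inv_smul, hone]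
  have hne : ∃ c : E, σ c ≠ c := by
    by_contra hall
    push Not at hall
    have h2 : Nat.card D.rot ≤ 2 := by
      by_cases hex : ∃ u : D.rot, (u : H) ≠ 1
      · obtain ⟨u, hu⟩ := hex
        have hneg : ∀ t : H, InT V t → t ≠ 1 → ∀ x : V, t • x = -x := fun t ht h1 => by
          refine (D.neg_T ht ?_).resolve_left h1
          have e1 : t⁻¹ • x₀ = t • x₀ := ψ.injective ((hσμ t ht).symm.trans (hall _))
          have e2 : (⟨t⁻¹, D.inv_T ht⟩ : D.rot) = ⟨t, ht⟩ := D.rot_injective hx₀ e1
          rw [← inv_eq_iff_mul_eq_one]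
          exact congrArg Subtype.val e2
        have := Fintype.ofFinite D.rot
        have hsub : (Finset.univ : Finset D.rot) ⊆ {1, u} := fun t _ => by
          rcases eq_or_ne t 1 with e | e
          · simp [e]
          · simp only [Finset.mem_insert, Finset.mem_singleton]
            exact Or.inr (Subtype.ext (FaithfulSMul.eq_of_smul_eq_smul (α := V) fun x => by
              rw [hneg t t.2 (fun e' => e (Subtype.ext e')), hneg u u.2 hu]))
        rw [Nat.card_eq_fintype_card, ← Finset.card_univ]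
        exact (Finset.card_le_card hsub).trans Finset.card_le_two
      · push Not at hex
        have : Subsingleton D.rot := ⟨fun a b => Subtype.ext (by rw [hex a, hex b])⟩
        exact (Finite.card_le_one_iff_subsingleton.2 this).trans one_le_two
    rw [D.card_rot] at h2
    omega
  let F : Subfield E :=
    { carrier := {b | σ b = b}
      mul_mem' := fun {a b} (ha : σ a = a) (hb : σ b = b) => show σ (a * b) = a * b by rw [map_mul, ha, hb]
      one_mem' := map_one σ
      add_mem' := fun {a b} (ha : σ a = a) (hb : σ b = b) => show σ (a + b) = a + b by rw [map_add, ha, hb]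
      zero_mem' := map_zero σ
      neg_mem' := fun {a} (ha : σ a = a) => show σ (-a) = -a by rw [map_neg, ha]
      inv_mem' := fun a (ha : σ a = a) => show σ a⁻¹ = a⁻¹ by rw [map_inv₀, ha] }
  have hF : Nat.card F = Nat.card (Img h : AddSubgroup V) := by
    rw [← D.card_fix D.C.hh]
    refine (Nat.card_congr (Equiv.subtypeEquiv ψ.toEquiv fun x => ?_)).symm
    show x ∈ (Fx h : AddSubgroup V) ↔ σ (ψ x) = ψ x
    rw [mem_Fx, ← hσ, ψ.injective.eq_iff]
  have hrank : Module.finrank F E = 2 := by
    have h1 := Module.natCard_eq_pow_finrank (K := F) (V := E)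
    rw [hF, ← Nat.card_congr ψ.toEquiv, D.card_V, ← sq] at h1
    exact (Nat.pow_right_injective hQ h1).symm
  let σ' : E ≃ₐ[F] E := AlgEquiv.ofRingEquiv (f := σ) (fun b => b.2)
  have hσ'a : ∀ b, σ' b = σ b := fun b => rfl
  have hσ'1 : σ' ≠ 1 := fun e => hne.elim fun c hc => hc (by rw [← hσ'a, e]; rfl)
  have huniv : (Finset.univ : Finset (E ≃ₐ[F] E)) = {1, σ'} := by
    refine (Finset.eq_univ_of_card _ ?_).symm
    rw [Finset.card_pair hσ'1.symm, ← Nat.card_eq_fintype_card, IsGalois.card_aut_eq_finrank, hrank]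
  have hnorm : ∀ a : E, Algebra.norm F a = 1 ↔ a * σ a = 1 := fun a => by
    have h1 := Algebra.norm_eq_prod_automorphisms F a
    rw [huniv, Finset.prod_pair hσ'1.symm] at h1
    refine ⟨fun e => ?_, fun e => (algebraMap F E).injective (h1.trans (e.trans (map_one _).symm))⟩
    rw [e, map_one] at h1
    exact h1.symm
  refine ⟨F, E, inferInstance, Fintype.ofFinite F, inferInstance, inferInstance, inferInstance, ψ, hrank,
    fun f => ⟨?_, ?_⟩⟩
  · rintro ⟨g, hg⟩
    rcases D.decomp h D.C.hh g with hR | ⟨n, hn, rfl⟩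
    · refine ⟨μ (g * h), σ', (hnorm _).2 (hμone _ (D.mul_T hR D.C.hh)), fun x => ?_⟩
      rw [hσ'a, ← hσ x, ← hT _ (D.mul_T hR D.C.hh), ← hg, ← mul_smul, mul_assoc, sq_of_R hB D.C.hh,
        mul_one]
    · exact ⟨μ (n * h), 1, (hnorm _).2 (hμone _ (D.mul_T hn D.C.hh)),
        fun x => by rw [← hg, hT _ (D.mul_T hn D.C.hh)]; rfl⟩
  · rintro ⟨a, φ, ha, hf⟩
    rw [hnorm] at ha
    obtain ⟨b, hb0, hb⟩ : ∃ b : E, b ≠ 0 ∧ a * σ b = b := by
      rcases eq_or_ne (1 + a) 0 with e | e
      · obtain ⟨c, hc⟩ := hne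
        refine ⟨c - σ c, sub_ne_zero.2 hc.symm, ?_⟩
        rw [map_sub, hσσ, eq_neg_of_add_eq_zero_right e]
        ring
      · exact ⟨1 + a, e, by rw [map_add, map_one, mul_add, mul_one, ha, add_comm]⟩
    obtain ⟨y, rfl⟩ := ψ.surjective b
    obtain ⟨n, hn, hny⟩ := D.exists_fix (x := y) (fun e => hb0 (by rw [e, map_zero]))
    have ht : InT V (n * h) := D.mul_T hn D.C.hh
    have e1 : a = μ (n * h) := by
      have h1 : μ (n * h) * σ (ψ y) = ψ y := by
        rw [← hσ, ← hT _ ht, mul_smul, ← mul_smul h, sq_of_R hB D.C.hh, one_smul, hny]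
      exact mul_right_cancel₀ (b := σ (ψ y)) (fun e => hb0 (σ.injective (by rw [e, map_zero])))
        (hb.trans h1.symm)
    have hφ : φ = 1 ∨ φ = σ' := by
      have := Finset.mem_univ φ
      simpa [huniv] using this
    rcases hφ with rfl | rfl
    · refine ⟨n * h, fun x => ψ.injective ?_⟩
      rw [hf, e1, hT _ ht]
      rfl
    · refine ⟨n, fun x => ψ.injective ?_⟩
      rw [hf, e1, hσ'a, ← hσ x, ← hT _ ht, mul_smul, ← mul_smul h, sq_of_R hB D.C.hh, one_smul]

end

end CfsgLib.BinaryAffine
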